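import Cfsg.Agent.Lib.Classical.SThree.Step
import Mathlib.Analysis.Complex.Polynomial.Basic
import Cfsg.Agent.S0251

/-!
Fixed points of elementary abelian 2-groups in groups without section `S₃` acting faithfully.
-/

set_option autoImplicit false
set_option linter.unusedSectionVars false
set_option linter.style.haveILetI false

namespace Cfsg.Agent.Classical.SThree

open Subgroup Cfsg.Agent.Invol Cfsg.Agent.Block.SFour
open scoped Pointwise commutatorElement

universe u

variable {G : Type u} [Group G] [Finite G] {V : Type u} [CommGroup V] [Finite V]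

theorem not_isSimpleGroup_alt_four : ¬ IsSimpleGroup (alternatingGroup (Fin 4)) := by
  intro h
  let V₄ : Subgroup (alternatingGroup (Fin 4)) :=
    { carrier := {σ | σ * σ = 1}
      one_mem' := one_mul 1
      mul_mem' := fun {a b} => (by decide :
        ∀ a b : alternatingGroup (Fin 4), a * a = 1 → b * b = 1 → a * b * (a * b) = 1) a b
      inv_mem' := fun {a} (ha : a * a = 1) => show a⁻¹ * a⁻¹ = 1 by rw [← mul_inv_rev, ha, inv_one] }
  have hn : V₄.Normal := ⟨fun σ (hσ : σ * σ = 1) g => show g * σ * g⁻¹ * (g * σ * g⁻¹) = 1 by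
    rw [show g * σ * g⁻¹ * (g * σ * g⁻¹) = g * (σ * σ) * g⁻¹ by group, hσ, mul_one, mul_inv_cancel]⟩
  rcases hn.eq_bot_or_eq_top with e | e
  · obtain ⟨a, ha, ha1⟩ := (by decide : ∃ a : alternatingGroup (Fin 4), a * a = 1 ∧ a ≠ 1)
    exact ha1 (Subgroup.mem_bot.mp (e ▸ (show a ∈ V₄ from ha)))
  · obtain ⟨a, ha⟩ := (by decide : ∃ a : alternatingGroup (Fin 4), a * a ≠ 1)
    exact ha (show a ∈ V₄ from e ▸ Subgroup.mem_top a)

/-- An inverted element of order three gives a section `S₃`. -/
theorem involves_perm_three {t r : G} {k : ℕ} (hk : t ^ 2 ^ k = 1) (hr3 : r ^ 3 = 1) (hr1 : r ≠ 1)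
    (hinv : t * r * t⁻¹ = r⁻¹) : Cfsg.Involves (Equiv.Perm (Fin 3)) G := by
  classical
  haveI : Fact (Nat.Prime 2) := ⟨Nat.prime_two⟩
  have hro : orderOf r = 3 := orderOf_eq_prime hr3 hr1
  obtain ⟨i, hi, hto⟩ := (Nat.dvd_prime_pow Nat.prime_two).mp (orderOf_dvd_of_pow_eq_one hk)
  have htn : Subgroup.zpowers t ≤ normalizer (Subgroup.zpowers r : Set G) := by
    rw [Subgroup.zpowers_le, Grp.mem_normalizer_iff_smul, ← Grp.map_conj_eq_smul, MonoidHom.map_zpowers]
    show Subgroup.zpowers (t * r * t⁻¹) = _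
    rw [hinv, Subgroup.zpowers_inv]
  set H := Subgroup.zpowers t ⊔ Subgroup.zpowers r
  have hdis : Subgroup.zpowers t ⊓ Subgroup.zpowers r = ⊥ :=
    Subgroup.inf_eq_bot_of_coprime (by
      rw [Nat.card_zpowers, Nat.card_zpowers, hto, hro]
      exact Nat.Coprime.pow_left i (by norm_num))
  have hH := Grp.card_sup_mul_card_inf htn
  rw [hdis, Subgroup.card_bot, mul_one, Nat.card_zpowers, Nat.card_zpowers, hro] at hH
  have htH : t ∈ H := le_sup_left (b := Subgroup.zpowers r) (mem_zpowers t)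
  have hrH : r ∈ H := le_sup_right (a := Subgroup.zpowers t) (mem_zpowers r)
  set P : Subgroup H := (Subgroup.zpowers t).subgroupOf H
  have hP : Nat.card (H ⧸ P) = 3 := by
    have h1 := Subgroup.card_mul_index P
    rw [Nat.card_congr (Subgroup.subgroupOfEquivOfLe (le_sup_left : Subgroup.zpowers t ≤ H)).toEquiv,
      Nat.card_zpowers, hH] at h1
    exact Nat.eq_of_mul_eq_mul_left (orderOf_pos t) h1
  have hnot : r ∉ Subgroup.zpowers t := fun h => hr1 (by
    have : r ∈ Subgroup.zpowers t ⊓ Subgroup.zpowers r := ⟨h, mem_zpowers r⟩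
    rwa [hdis, Subgroup.mem_bot] at this)
  let e : H ⧸ P ≃ Fin 3 := (Finite.equivFinOfCardEq hP)
  let φ : H →* Equiv.Perm (Fin 3) :=
    e.permCongrHom.toMonoidHom.comp (MulAction.toPermHom H (H ⧸ P))
  refine Invol.IsSectionOf.involves ⟨H, φ, ?_⟩
  rw [← MonoidHom.range_eq_top]
  have hmove : ∀ (x : H) (q : H ⧸ P), x • q ≠ q → φ x ≠ 1 := fun x q hq h => hq (by
    have h1 := Equiv.congr_fun h (e q)
    simpa [φ, Equiv.permCongrHom] using h1)
  have hr' : φ ⟨r, hrH⟩ ≠ 1 := hmove _ ((1 : H) : H ⧸ P) fun h => hnot (by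
    have h1 : ((⟨r, hrH⟩ * 1 : H) : H ⧸ P) = ((1 : H) : H ⧸ P) := h
    rw [mul_one, QuotientGroup.eq, mul_one] at h1
    simpa [P, Subgroup.mem_subgroupOf] using h1)
  have ht' : φ ⟨t, htH⟩ ≠ 1 := hmove _ ((⟨r, hrH⟩ : H) : H ⧸ P) fun h => hnot (by
    have h1 : ((⟨t, htH⟩ * ⟨r, hrH⟩ : H) : H ⧸ P) = ((⟨r, hrH⟩ : H) : H ⧸ P) := h
    rw [QuotientGroup.eq, Subgroup.mem_subgroupOf] at h1
    have h2 : (t * r)⁻¹ * r ∈ Subgroup.zpowers t := by simpa using h1
    rw [show t * r = r⁻¹ * t by rw [← hinv]; group, mul_inv_rev, inv_inv, mul_assoc] at h2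
    have h3 := Subgroup.mul_mem _ (mem_zpowers t) h2
    rw [mul_inv_cancel_left] at h3
    have h4 := inv_mem h3
    have h5 : r = (r * r)⁻¹ := eq_inv_of_mul_eq_one_left (by rw [← mul_assoc, ← hr3, pow_succ, pow_two])
    rwa [← h5] at h4)
  have h3 : 3 ∣ Nat.card φ.range := by
    have : orderOf (φ.rangeRestrict ⟨r, hrH⟩) = 3 := orderOf_eq_prime
      (by rw [← map_pow, show (⟨r, hrH⟩ : H) ^ 3 = 1 from Subtype.ext hr3, map_one])
      fun h => hr' (congrArg Subtype.val h)
    have hd := _root_.orderOf_dvd_natCard (φ.rangeRestrict ⟨r, hrH⟩)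
    rwa [this] at hd
  have h2 : 2 ∣ Nat.card φ.range := by
    obtain ⟨j, hj, hjo⟩ := (Nat.dvd_prime_pow Nat.prime_two).mp (orderOf_dvd_of_pow_eq_one
      (show (φ.rangeRestrict ⟨t, htH⟩) ^ 2 ^ k = 1 by
        rw [← map_pow, show (⟨t, htH⟩ : H) ^ 2 ^ k = 1 from Subtype.ext hk, map_one]))
    have hj0 : j ≠ 0 := fun h0 => by
      rw [h0, pow_zero, orderOf_eq_one_iff] at hjo
      exact ht' (congrArg Subtype.val hjo)
    refine (dvd_pow_self 2 hj0).trans ?_
    rw [← hjo]
    exact _root_.orderOf_dvd_natCard _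
  refine Subgroup.eq_top_of_le_card _ ?_
  rw [Nat.card_perm, Nat.card_fin]
  exact Nat.le_of_dvd Nat.card_pos (Nat.Coprime.mul_dvd_of_dvd_of_dvd (by norm_num) h3 h2)

/-- Every component has one of the two kinds of central quotient. -/
def GoodComps (G : Type u) [Group G] [Finite G] : Prop :=
  ∀ K : Subgroup G, Cfsg.IsComponent K → ∃ (T : Type) (_ : Group T) (_ : CentQuot K T), Model T

theorem goodComps_of_composition
    (hc : Cfsg.IsCompositionKGroupWith Cfsg.IsSuzukiOrPSL2OddPowerThree G) : GoodComps G := by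
  intro K hK
  haveI : IsSimpleGroup (K ⧸ center K) := hK.2.2
  have hne : ¬ IsMulCommutative (K ⧸ center K) := by
    intro hcomm
    refine Grp.IsQuasisimple.not_isSolvable hK.2 ?_
    haveI : Group.IsSolvable (K ⧸ center K) := by open scoped IsMulCommutative in infer_instance
    haveI : Group.IsSolvable (center K) := by open scoped IsMulCommutative in infer_instance
    exact Group.isSolvable_of_ker_le_range (center K).subtype (QuotientGroup.mk' (center K))
      (by rw [QuotientGroup.ker_mk', Subgroup.range_subtype])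
  have key : ∀ (T : Type) [Group T] (e : K ⧸ center K ≃* T), Nonempty (CentQuot K T) := fun T _ e =>
    ⟨{ π := e.toMonoidHom.comp (QuotientGroup.mk' (center K))
       surj := e.surjective.comp (QuotientGroup.mk'_surjective _)
       ker := by ext x; simp [MonoidHom.mem_ker] }⟩
  rcases hc K hK.1 (center K) inferInstance hne with ⟨F, _, _, m, hm, hF, ⟨e⟩⟩ | ⟨F, _, _, n, hF, ⟨e⟩⟩
  · exact ⟨_, _, (key _ (e.trans (Suz.szEquiv (⟨hm, hF⟩ : Suz.SzField F m)).symm)).some,
      model_sz ⟨hm, hF⟩⟩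
  · refine ⟨_, _, (key _ e).some, model_psl hF (Nat.one_le_iff_ne_zero.mpr fun h0 => ?_)⟩
    subst h0
    haveI : IsSimpleGroup (Matrix.ProjectiveSpecialLinearGroup (Fin 2) F) := e.symm.isSimpleGroup
    obtain ⟨e₄⟩ := Cfsg.Agent.S0251.result (F := F) (by rw [hF]; rfl)
    exact not_isSimpleGroup_alt_four e₄.symm.isSimpleGroup

theorem exists_wit (hO : Cfsg.pCore 2 G = ⊥) (hn : NoThree G) (hK : GoodComps G) {A : Subgroup G}
    (hA : Cfsg.IsElementaryAbelian 2 A) (hA1 : A ≠ ⊥) : Wit A := by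
  by_cases hF : A ≤ centralizer (Cfsg.fittingSubgroup G : Set G)
  · obtain ⟨K, hKc, hne⟩ := exists_component hO hA hA1 hF
    obtain ⟨T, _, Q, hT⟩ := hK K hKc
    exact wit_of_component hn hA hF hKc hne Q hT
  · exact wit_of_fitting hO hA hF

/-- The inequality for a faithful module. -/
theorem dom_faithful {α : G →* MulAut V} (hα : Function.Injective α) (hV : ∀ v : V, v ^ 2 = 1)
    (hO : Cfsg.pCore 2 G = ⊥) (hn : NoThree G) (hK : GoodComps G) :
    ∀ (k : ℕ) (A : Subgroup G), Nat.card A = k → Cfsg.IsElementaryAbelian 2 A →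
      Nat.card A ^ 2 ≤ (fixOf α A).index := by
  haveI : Fact (Nat.Prime 2) := ⟨Nat.prime_two⟩
  intro k
  induction k using Nat.strong_induction_on with
  | _ k ih =>
  intro A hk hA
  by_cases hA1 : A = ⊥
  · rw [hA1, Subgroup.card_bot]
    exact Nat.one_le_iff_ne_zero.mpr Subgroup.index_ne_zero_of_finite
  obtain ⟨B, a, x, hBA, ha, haB, hx1, hxo, hinv, hBx, hsize⟩ := exists_wit hO hn hK hA hA1
  have hBlt : Nat.card B < k := by
    rw [← hk]
    refine lt_of_le_of_ne (Subgroup.card_le_of_le hBA) fun h => haB ?_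
    rw [Subgroup.eq_of_le_of_card_ge hBA h.ge]
    exact ha
  have hIH := ih _ hBlt B rfl (isEl_mono hA hBA)
  have hcard : Nat.card A = Nat.card B * B.relIndex A := by
    rw [← Subgroup.relIndex_bot_left, ← Subgroup.relIndex_bot_left]
    exact (Subgroup.relIndex_mul_relIndex ⊥ B A bot_le hBA).symm
  set C := centralizer (B : Set G) with hC
  have haC : a ∈ C := Subgroup.mem_centralizer_iff.mpr fun b hb => (isEl_iff.mp hA).1 b (hBA hb) a ha
  have hxC : x ∈ C := Subgroup.mem_centralizer_iff.mpr hBx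
  set U := fixOf α B with hU
  have hinvU : ∀ h : C, ∀ u ∈ U, (α.comp C.subtype) h u ∈ U := by
    rintro ⟨h, hh⟩ u hu d hd
    show α d (α h u) = α h u
    rw [← MulAut.mul_apply, ← map_mul, Subgroup.mem_centralizer_iff.mp hh d hd, map_mul,
      MulAut.mul_apply, hu d hd]
  set β := restrictAct (α.comp C.subtype) U hinvU with hβ
  have hfaith : ∀ (i : ℕ), β (⟨x, hxC⟩ ^ i) = 1 → x ^ i = 1 := fun i h => hα (by
    rw [map_one]
    refine eq_one_of_fix_centralizer (isPGroup_of_inv_two hV)
      ((isPGroup_of_inv_two (X := B) fun d => Subtype.ext (by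
        rw [SubmonoidClass.coe_pow]; exact hA.2 _ (hBA d.2))).map α)
      (Nat.coprime_two_right.2 hxo)
      (by rw [map_pow, ← pow_mul, mul_comm, pow_mul, ← map_pow, pow_orderOf_eq_one, map_one, one_pow]) ?_
      fun v hv => ?_
    · rintro _ ⟨d, hd, rfl⟩
      exact ((show Commute d x from hBx d hd).pow_right i).map α
    · have hvU : v ∈ U := fun d hd => hv _ ⟨d, hd, rfl⟩
      exact congrArg Subtype.val (DFunLike.congr_fun h (⟨v, hvU⟩ : U)))
  have hU2 : ∀ u : U, u ^ 2 = 1 := fun u => Subtype.ext (by rw [SubmonoidClass.coe_pow]; exact hV _)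
  have haa : a * a = 1 := by rw [← pow_two]; exact hA.2 a ha
  have hgain : (B.relIndex A) ^ 2 ≤ (fixOf β (zpowers ⟨a, haC⟩)).index := by
    rcases hsize with h2 | ⟨r, b, c, e, hr, hr2, hb, hbc, hord, hbig, hidx⟩
    · rw [h2]
      refine four_le_index hU2 (hn.subgroup C) (x := ⟨x, hxC⟩) (Subtype.ext haa) ?_ (Subtype.ext hinv) ?_
      · rw [← Subgroup.orderOf_coe]; exact hxo
      · intro h
        refine hx1 ?_
        simpa using hfaith 1 (by rw [pow_one]; exact h)
    · let am : MulAut U →* AddMonoid.End (Additive U) :=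
        { toFun := fun f => MonoidHom.toAdditive f.toMonoidHom
          map_one' := rfl
          map_mul' := fun f g => rfl }
      have hordβ : orderOf (β.rangeRestrict ⟨x, hxC⟩) = r ^ c := by
        rw [← hord]
        refine Nat.dvd_antisymm ((orderOf_map_dvd _ _).trans (dvd_of_eq (Subgroup.orderOf_coe _).symm)) ?_
        refine orderOf_dvd_of_pow_eq_one (hfaith _ ?_)
        rw [map_pow]
        exact congrArg Subtype.val (pow_orderOf_eq_one (β.rangeRestrict ⟨x, hxC⟩))
      obtain ⟨-, hb2⟩ := RegInv.core_bound (am.comp β.range.subtype)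
        (fun u => Additive.toMul.injective (by rw [← two_nsmul, toMul_nsmul]; exact hU2 _))
        (fun g hg => Subtype.ext (MulEquiv.ext fun u =>
          Additive.ofMul.injective (hg (Additive.ofMul u))))
        hr hr2 (hb.trans hbc) hordβ (a := β.rangeRestrict ⟨a, haC⟩)
        (by rw [← map_mul, ← map_one β.rangeRestrict]; exact congrArg _ (Subtype.ext haa))
        (by
          rw [← map_mul, ← map_mul, ← map_inv]
          refine congrArg _ (Subtype.ext ?_)
          show a * x * a = x⁻¹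
          rw [← hinv, inv_eq_of_mul_eq_one_right haa])
        (fun j hj hd => hbig j hj ((pow_dvd_pow r hbc).trans hd))
      have hfix : Nat.card (fixOf β (zpowers ⟨a, haC⟩)) ≤ Nat.card {u : Additive U //
          (am.comp β.range.subtype) (β.rangeRestrict ⟨a, haC⟩) u = u} :=
        Nat.card_le_card_of_injective (fun u => ⟨Additive.ofMul u.1,
          congrArg Additive.ofMul (u.2 _ (mem_zpowers _))⟩) fun u w h =>
            Subtype.ext (congrArg (fun z => Additive.toMul (z : {u : Additive U //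
              (am.comp β.range.subtype) (β.rangeRestrict ⟨a, haC⟩) u = u}).1) h)
      set I := (fixOf β (zpowers ⟨a, haC⟩)).index
      set f := Nat.card (fixOf β (zpowers ⟨a, haC⟩))
      have hUc : Nat.card (Additive U) = f * I := by
        rw [Nat.card_congr Additive.toMul, ← Subgroup.card_mul_index (fixOf β (zpowers ⟨a, haC⟩))]
      rw [hUc] at hb2
      have h1 : 2 ^ e * f ^ 2 ≤ (f * I) ^ 2 :=
        (Nat.mul_le_mul_left _ (Nat.pow_le_pow_left hfix 2)).trans hb2
      have h2 : 2 ^ e ≤ I ^ 2 := Nat.le_of_mul_le_mul_right (c := f ^ 2)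
        (h1.trans_eq (by ring)) (pow_pos Nat.card_pos 2)
      have h3 : ((B.relIndex A) ^ 2) ^ 2 ≤ I ^ 2 := by
        rw [← pow_mul]; exact hidx.trans h2
      exact (Nat.pow_le_pow_iff_left two_ne_zero).mp h3
  have hle : fixOf α A ≤ U := fixOf_anti hBA
  have hgain' : (B.relIndex A) ^ 2 ≤ (fixOf α A).relIndex U := by
    refine hgain.trans (Subgroup.index_antitone (fun u hu => ?_))
    rintro ⟨h, hh⟩ hmem
    obtain ⟨i, hi⟩ := mem_zpowers_iff.mp hmem
    have hhA : h ∈ A := by
      have e := congrArg Subtype.val hi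
      rw [SubgroupClass.coe_zpow] at e
      show h ∈ A
      rw [show h = a ^ i from e.symm]
      exact zpow_mem ha i
    exact Subtype.ext (hu h hhA)
  calc Nat.card A ^ 2 = B.relIndex A ^ 2 * Nat.card B ^ 2 := by rw [hcard]; ring
    _ ≤ (fixOf α A).relIndex U * U.index := Nat.mul_le_mul hgain' hIH
    _ = (fixOf α A).index := Subgroup.relIndex_mul_index hle

/-- The action on the characters. -/
noncomputable def dual (α : G →* MulAut V) : G →* MulAut (V →* ℂˣ) where
  toFun g := MulEquiv.monoidHomCongrLeft (α g)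
  map_one' := by rw [map_one]; rfl
  map_mul' g h := by rw [map_mul]; rfl

theorem dual_apply (α : G →* MulAut V) (g : G) (χ : V →* ℂˣ) (v : V) :
    dual α g χ v = χ ((α g).symm v) := rfl

/-- The commutator has at least the square. -/
theorem dom_commutator {α : G →* MulAut V} (hα : Function.Injective α) (hV : ∀ v : V, v ^ 2 = 1)
    (hO : Cfsg.pCore 2 G = ⊥) (hn : NoThree G) (hK : GoodComps G) {A : Subgroup G}
    (hA : Cfsg.IsElementaryAbelian 2 A) :
    Nat.card A ^ 2 ≤ Nat.card (Subgroup.closure {w : V | ∃ a ∈ A, ∃ v, w = α a v / v}) := by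
  haveI : NeZero (Monoid.exponent V) := ⟨Monoid.exponent_ne_zero_of_finite⟩
  haveI : HasEnoughRootsOfUnity ℂ (Monoid.exponent V) := inferInstance
  haveI : Finite (V →* ℂˣ) := Finite.of_equiv V
    (CommGroup.monoidHom_mulEquiv_of_hasEnoughRootsOfUnity V ℂ).some.symm.toEquiv
  have hinj : Function.Injective (dual α) := by
    intro g h e
    refine hα (MulEquiv.ext fun v => ?_)
    by_contra hne
    obtain ⟨χ, hχ⟩ := CommGroup.exists_apply_ne_one_of_hasEnoughRootsOfUnity V ℂ
      (a := α g v / α h v) (fun e => hne (div_eq_one.mp e))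
    refine hχ ?_
    rw [map_div, div_eq_one]
    have := DFunLike.congr_fun (DFunLike.congr_fun e (χ.comp (α g).toMonoidHom)) (α h v)
    rw [dual_apply, dual_apply] at this
    simpa using this.symm
  have hV' : ∀ χ : V →* ℂˣ, χ ^ 2 = 1 := fun χ => MonoidHom.ext fun v => by
    rw [MonoidHom.pow_apply, ← map_pow, hV v, map_one, MonoidHom.one_apply]
  have h1 := dom_faithful (V := V →* ℂˣ) (α := dual α) hinj hV' hO hn hK _ A rfl hA
  set D := Subgroup.closure {w : V | ∃ a ∈ A, ∃ v, w = α a v / v} with hD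
  refine h1.trans (le_of_eq ?_)
  have hfix : Nat.card (fixOf (V := V →* ℂˣ) (dual α) A) = D.index := by
    haveI : NeZero (Monoid.exponent (V ⧸ D)) := ⟨Monoid.exponent_ne_zero_of_finite⟩
    haveI : HasEnoughRootsOfUnity ℂ (Monoid.exponent (V ⧸ D)) := inferInstance
    rw [Subgroup.index, ← Nat.card_congr
      (CommGroup.monoidHom_mulEquiv_of_hasEnoughRootsOfUnity (V ⧸ D) ℂ).some.toEquiv]
    have hmem : ∀ χ : V →* ℂˣ, χ ∈ fixOf (V := V →* ℂˣ) (dual α) A ↔ D ≤ χ.ker := by
      intro χ
      constructor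
      · intro h
        rw [hD, Subgroup.closure_le]
        rintro _ ⟨a, ha, v, rfl⟩
        have := DFunLike.congr_fun (h a ha) (α a v)
        rw [dual_apply, MulEquiv.symm_apply_apply] at this
        rw [SetLike.mem_coe, MonoidHom.mem_ker, map_div, this, div_self']
      · intro h a ha
        refine MonoidHom.ext fun v => ?_
        rw [dual_apply]
        have := h (Subgroup.subset_closure ⟨a, ha, (α a).symm v, rfl⟩ :
          α a ((α a).symm v) / (α a).symm v ∈ D)
        rw [MulEquiv.apply_symm_apply, MonoidHom.mem_ker, map_div, div_eq_one] at this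
        exact this.symm
    refine Nat.card_eq_of_bijective (fun χ => QuotientGroup.lift D χ.1 ((hmem _).mp χ.2)) ⟨?_, ?_⟩
    · intro χ ψ h
      refine Subtype.ext (MonoidHom.ext fun v => ?_)
      exact DFunLike.congr_fun h (v : V ⧸ D)
    · intro ψ
      refine ⟨⟨ψ.comp (QuotientGroup.mk' D), (hmem _).mpr fun d hd => ?_⟩, ?_⟩
      · rw [MonoidHom.mem_ker, MonoidHom.comp_apply, QuotientGroup.mk'_apply,
          (QuotientGroup.eq_one_iff d).mpr hd, map_one]
      · exact QuotientGroup.monoidHom_ext _ (MonoidHom.ext fun v => rfl)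
  have h2 := Subgroup.card_mul_index (fixOf (V := V →* ℂˣ) (dual α) A)
  rw [Nat.card_congr (CommGroup.monoidHom_mulEquiv_of_hasEnoughRootsOfUnity V ℂ).some.toEquiv,
    hfix, ← Subgroup.card_mul_index D, mul_comm] at h2
  exact Nat.eq_of_mul_eq_mul_right (Nat.pos_of_ne_zero Subgroup.index_ne_zero_of_finite) h2

end Cfsg.Agent.Classical.SThree
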