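import Cfsg.Agent.Lib.Classical.SThree.Main
import Cfsg.Agent.Lib.Lie.Sz.Maximal
import Cfsg.Agent.Lib.Classical.DicksonMain
import Cfsg.Agent.Lib.Classical.DicksonFacts
import Cfsg.Agent.Lib.Classical.DicksonMaxFacts
import Cfsg.Agent.Lib.Grp.TwoSymFour.Known
import Cfsg.Agent.Lib.Transfer.OrderTypeExample

/-!
Every simple section of `Sz(2^(2m+1))` or `PSL₂(3^(2n+1))` is of the same kind, so a group all whose
composition factors are of this kind has only simple sections of this kind.
-/

set_option autoImplicit false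
set_option linter.unusedSectionVars false

namespace Cfsg.Agent.Classical.SThree

open Subgroup

universe u v

theorem classCongr {X : Type u} {Y : Type v} [Group X] [Group Y] (e : X ≃* Y)
    (h : Cfsg.IsSuzukiOrPSL2OddPowerThree Y) : Cfsg.IsSuzukiOrPSL2OddPowerThree X := by
  rcases h with ⟨F, i, j, m, hm, hF, ⟨f⟩⟩ | ⟨F, i, j, n, hF, ⟨f⟩⟩
  · exact Or.inl ⟨F, i, j, m, hm, hF, ⟨e.trans f⟩⟩
  · exact Or.inr ⟨F, i, j, n, hF, ⟨e.trans f⟩⟩

/-- The nonabelian simple quotient of a group isomorphic to a simple group. -/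
theorem quot_of_simple {H : Type u} {M : Type v} [Group H] [Group M] (e : H ≃* M) [IsSimpleGroup M]
    (N : Subgroup H) [N.Normal] (hne : ¬ IsMulCommutative (H ⧸ N)) : Nonempty (H ⧸ N ≃* M) := by
  haveI : IsSimpleGroup H := e.isSimpleGroup
  rcases (inferInstance : N.Normal).eq_bot_or_eq_top with h | h
  · exact ⟨(QuotientGroup.quotientMulEquivOfEq h).trans (QuotientGroup.quotientBot.trans e)⟩
  · exfalso
    haveI : Subsingleton (H ⧸ N) := by rw [h]; exact QuotientGroup.subsingleton_quotient_top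
    exact hne ⟨⟨fun a b => Subsingleton.elim _ _⟩⟩

theorem not_isSolvable_of_quot {H : Type u} [Group H] (N : Subgroup H) [N.Normal]
    [IsSimpleGroup (H ⧸ N)] (hne : ¬ IsMulCommutative (H ⧸ N)) : ¬ Group.IsSolvable H := fun h => by
  haveI := h
  haveI : Group.IsSolvable (H ⧸ N) := Group.isSolvable_of_surjective (QuotientGroup.mk'_surjective N)
  exact hne ⟨⟨(IsSimpleGroup.comm_iff_isSolvable (G := H ⧸ N)).2 inferInstance⟩⟩

theorem sz_hereditary {F : Type v} [Field F] [Fintype F] {m : ℕ} (hS : Suz.SzField F m)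
    (H : Subgroup ↥(Cfsg.Sz F m)) (N : Subgroup H) [N.Normal] [IsSimpleGroup (H ⧸ N)]
    (hne : ¬ IsMulCommutative (H ⧸ N)) : Cfsg.IsSuzukiOrPSL2OddPowerThree (H ⧸ N) := by
  obtain ⟨k, hk1, hkd, hform⟩ := Suz.exists_subfieldForm hS H (not_isSolvable_of_quot N hne)
  let K := GaloisField 2 (2 * k + 1)
  letI : Fintype K := Fintype.ofFinite _
  have hKc : Fintype.card K = 2 ^ (2 * k + 1) := by
    rw [← Nat.card_eq_fintype_card]; exact GaloisField.card 2 _ (by omega)
  have hK : Suz.SzField K k := ⟨hk1, hKc⟩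
  obtain ⟨ι⟩ := Suz.exists_embedding hS hK hkd
  obtain ⟨g, hg⟩ := hform.eq_range hS hK ι (Suz.ι_th (m := m) hK hkd ι)
  let e : H ≃* ↥(Cfsg.Sz K k) := (MulEquiv.subgroupCongr hg).trans
    (((Subgroup.equivMapOfInjective _ _ (MulAut.conj g).injective).symm).trans
      (MonoidHom.ofInjective (Suz.fieldHom_injective hS hK ι (Suz.ι_th (m := m) hK hkd ι))).symm)
  haveI : IsSimpleGroup ↥(Cfsg.Sz K k) := Suz.isSimple hK
  obtain ⟨f⟩ := quot_of_simple e N hne
  exact Or.inl ⟨K, inferInstance, inferInstance, k, hk1, hKc, ⟨f.trans (Suz.szEquiv hK)⟩⟩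

theorem isSolvable_alt_four : Group.IsSolvable (alternatingGroup (Fin 4)) := by
  haveI := Grp.TwoSymFour.isSolvable_perm_four
  exact inferInstance

open Cfsg.Agent.Dickson Cfsg.Agent.PSL2Spec in
theorem psl_hereditary {F : Type v} [Field F] [Fintype F] {n : ℕ}
    (hF : Fintype.card F = 3 ^ (2 * n + 1))
    (H : Subgroup (Matrix.ProjectiveSpecialLinearGroup (Fin 2) F)) (N : Subgroup H) [N.Normal]
    [IsSimpleGroup (H ⧸ N)] (hne : ¬ IsMulCommutative (H ⧸ N)) :
    Cfsg.IsSuzukiOrPSL2OddPowerThree (H ⧸ N) := by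
  haveI : Fact (Nat.Prime 3) := ⟨Nat.prime_three⟩
  obtain ⟨h8, hodd, hch⟩ := card_facts hF
  have hns := not_isSolvable_of_quot N hne
  set G := Matrix.ProjectiveSpecialLinearGroup (Fin 2) F
  set q := Fintype.card F with hq
  have h2G : Nat.card G * 2 = q * ((q - 1) * (q + 1)) := by
    have h := Classical.natCard_PSL_mul (F := F) 2 (by norm_num)
    have hg2 : Nat.gcd 2 (Nat.card Fˣ) = 2 := by
      rw [Classical.natCard_units_field]
      exact Nat.gcd_eq_left (by omega)
    rw [hg2, Fus.PSLTwo.natCard_SL_two] at h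
    linarith
  have h5 : ¬ 5 ∣ Nat.card G := by
    intro hd
    have hq5 : q % 5 = 2 ∨ q % 5 = 3 := by
      rw [hF]
      clear * -
      induction n with
      | zero => norm_num
      | succ n ih =>
        rw [show 3 ^ (2 * (n + 1) + 1) = 9 * 3 ^ (2 * n + 1) by ring, Nat.mul_mod]
        rcases ih with h | h <;> rw [h] <;> norm_num
    have h5' : 5 ∣ q * ((q - 1) * (q + 1)) := h2G ▸ hd.mul_right 2
    rcases (Nat.Prime.dvd_mul (by norm_num)).mp h5' with h | h
    · omega
    rcases (Nat.Prime.dvd_mul (by norm_num)).mp h with h | h <;> omega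
  have h8G : ¬ 8 ∣ Nat.card G := by
    rintro ⟨c, hc⟩
    obtain ⟨t, ht⟩ : ∃ t, q = 8 * t + 3 := ⟨q / 8, by omega⟩
    rw [hc, ht] at h2G
    have h16 : (8 * t + 3) * ((8 * t + 3 - 1) * (8 * t + 3 + 1)) =
        16 * (32 * t ^ 3 + 36 * t ^ 2 + 13 * t + 1) + 8 := by
      rw [show 8 * t + 3 - 1 = 8 * t + 2 by omega]; ring
    omega
  have hdvd : Nat.card H ∣ Nat.card G := Subgroup.card_subgroup_dvd_card H
  cases dickson 3 H with
  | trivial h =>
    exact absurd (by subst h; infer_instance) hns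
  | cyclic a ha ha1 hap h =>
    haveI : IsCyclic (tor a) := (pslData 3).semi_cyclic ha1 hap
    haveI : IsCyclic H := isCyclic_of_injective (Subgroup.inclusion h) (Subgroup.inclusion_injective h)
    exact absurd (by
      letI : CommGroup H := IsCyclic.commGroup
      infer_instance) hns
  | dihedral a ha ha1 hap hidx h iso =>
    obtain ⟨e⟩ := iso
    exact absurd (Group.isSolvable_of_surjective (f := e.symm.toMonoidHom) e.symm.surjective) hns
  | borel a ha ha1 hap h =>
    set D := pslData (F := F) 3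
    refine absurd (show Group.IsSolvable H from ?_) hns
    have hA : IsMulCommutative ((tor a).subgroupOf H) :=
      ⟨⟨fun x y => Subtype.ext (Subtype.ext (D.comm ha1 x.2 y.2).eq)⟩⟩
    haveI : ((tor a).subgroupOf H).Normal := Subgroup.normal_subgroupOf_of_le_normalizer h
    haveI : Group.IsSolvable ((tor a).subgroupOf H) := by
      open scoped IsMulCommutative in infer_instance
    haveI : IsMulCommutative (H ⧸ (tor a).subgroupOf H) := ⟨⟨fun x y => by
      obtain ⟨x, rfl⟩ := QuotientGroup.mk'_surjective _ x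
      obtain ⟨y, rfl⟩ := QuotientGroup.mk'_surjective _ y
      rw [← map_mul, ← map_mul, QuotientGroup.mk'_apply, QuotientGroup.mk'_apply, QuotientGroup.eq,
        Subgroup.mem_subgroupOf]
      have := D.borel_comm (g := ((y : G))⁻¹) (h := ((x : G))⁻¹) ha1 hap
        ((D.mem_normalizer_iff ha1).mp (inv_mem (h y.2))) ((D.mem_normalizer_iff ha1).mp (inv_mem (h x.2)))
      simpa [mul_assoc, D, pslData] using this⟩⟩
    haveI : Group.IsSolvable (H ⧸ (tor a).subgroupOf H) := by
      open scoped IsMulCommutative in infer_instance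
    exact Group.isSolvable_of_ker_le_range ((tor a).subgroupOf H).subtype
      (QuotientGroup.mk' ((tor a).subgroupOf H))
      (by rw [QuotientGroup.ker_mk', Subgroup.range_subtype])
  | alt4 hc iso hp =>
    obtain ⟨e⟩ := iso
    haveI := isSolvable_alt_four
    exact absurd (Group.isSolvable_of_surjective (f := e.symm.toMonoidHom) e.symm.surjective) hns
  | perm4 hc iso hp =>
    obtain ⟨e⟩ := iso
    haveI := Grp.TwoSymFour.isSolvable_perm_four
    exact absurd (Group.isSolvable_of_surjective (f := e.symm.toMonoidHom) e.symm.surjective) hns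
  | alt5 hc iso hp =>
    exact absurd ((show 5 ∣ Nat.card H by rw [hc]; norm_num).trans hdvd) h5
  | subfield h =>
    obtain ⟨K, _, _, m, h3, hm, hi⟩ := h.nonempty
    obtain ⟨j, hjm, hj⟩ : ∃ j, j ∣ 2 * n + 1 ∧ Fintype.card K = 3 ^ j := by
      have hm0 : m ≠ 0 := fun e => by
        rw [e, pow_zero] at hm; omega
      have hd : Fintype.card K ∣ 3 ^ (2 * n + 1) := by
        rw [← hF, hq, ← hm]; exact dvd_pow_self _ hm0
      obtain ⟨j, -, hj⟩ := (Nat.dvd_prime_pow Nat.prime_three).mp hd
      refine ⟨j, ⟨m, ?_⟩, hj⟩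
      have : 3 ^ (j * m) = 3 ^ (2 * n + 1) := by rw [pow_mul, ← hj, hm, ← hF, hq]
      exact (Nat.pow_right_injective (by norm_num) this).symm
    obtain ⟨i, hi2⟩ : ∃ i, j = 2 * i + 1 :=
      (Odd.of_dvd_nat ⟨n, rfl⟩ hjm).imp fun i h => h
    subst hi2
    rcases hi with ⟨⟨e⟩⟩ | ⟨⟨e⟩⟩
    · by_cases hi0 : i = 0
      · subst hi0
        obtain ⟨e₄⟩ := Cfsg.Agent.S0251.result (F := K) (by rw [hj]; rfl)
        haveI := isSolvable_alt_four
        exact absurd (Group.isSolvable_of_surjective (f := (e.trans e₄).symm.toMonoidHom)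
          (e.trans e₄).symm.surjective) hns
      · haveI : IsSimpleGroup (Matrix.ProjectiveSpecialLinearGroup (Fin 2) K) :=
          Classical.PSL_isSimple le_rfl fun _ => by
            have : 27 ≤ Fintype.card K := by
              rw [hj]; exact le_trans (by norm_num) (Nat.pow_le_pow_right (by norm_num)
                (show 3 ≤ 2 * i + 1 by omega))
            omega
        obtain ⟨f⟩ := quot_of_simple e N hne
        exact Or.inr ⟨K, inferInstance, inferInstance, i, hj, ⟨f⟩⟩
    · exfalso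
      refine h8G (dvd_trans ?_ hdvd)
      rw [Nat.card_congr e.toEquiv, Classical.natCard_PGL_eq_SL, Fus.PSLTwo.natCard_SL_two, hj]
      obtain ⟨t, ht⟩ : ∃ t, 3 ^ (2 * i + 1) = 8 * t + 3 := ⟨3 ^ (2 * i + 1) / 8, by
        have : 3 ^ (2 * i + 1) % 8 = 3 := by
          rw [pow_succ, pow_mul, Nat.mul_mod, Nat.pow_mod]; norm_num
        omega⟩
      rw [ht]
      refine dvd_mul_of_dvd_right ?_ _
      rw [show 8 * t + 3 - 1 = 2 * (4 * t + 1) by omega, show 8 * t + 3 + 1 = 4 * (2 * t + 1) by omega]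
      exact ⟨(4 * t + 1) * (2 * t + 1), by ring⟩

/-- A group with good composition factors has only good simple sections. -/
theorem isKGroup_of_composition : ∀ (k : ℕ) (G : Type u) [Group G] [Finite G], Nat.card G = k →
    Cfsg.IsCompositionKGroupWith Cfsg.IsSuzukiOrPSL2OddPowerThree G →
      Cfsg.IsKGroupWith Cfsg.IsSuzukiOrPSL2OddPowerThree G := by
  intro k
  induction k using Nat.strong_induction_on with
  | _ k ih =>
  intro G _ _ hk hc H N hNn hsimp hne
  by_cases hGs : IsSimpleGroup G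
  · by_cases hGc : IsMulCommutative G
    · exact absurd ⟨⟨fun a b => by
        obtain ⟨a, rfl⟩ := QuotientGroup.mk'_surjective N a
        obtain ⟨b, rfl⟩ := QuotientGroup.mk'_surjective N b
        rw [← map_mul, ← map_mul]
        exact congrArg _ (Subtype.ext (hGc.is_comm.comm _ _))⟩⟩ hne
    let e₀ : ((⊤ : Subgroup G) ⧸ (⊥ : Subgroup (⊤ : Subgroup G))) ≃* G :=
      QuotientGroup.quotientBot.trans Subgroup.topEquiv
    haveI : IsSimpleGroup ((⊤ : Subgroup G) ⧸ (⊥ : Subgroup (⊤ : Subgroup G))) := e₀.isSimpleGroup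
    have hG := hc ⊤ Subgroup.IsSubnormal.top ⊥ inferInstance fun h => hGc ⟨⟨fun a b =>
      e₀.symm.injective (by rw [map_mul, map_mul]; exact h.is_comm.comm _ _)⟩⟩
    rcases hG with ⟨F, _, _, m, hm, hF, ⟨f⟩⟩ | ⟨F, _, _, n, hF, ⟨f⟩⟩
    · have hS : Suz.SzField F m := ⟨hm, hF⟩
      let g : G ≃* ↥(Cfsg.Sz F m) := e₀.symm.trans (f.trans (Suz.szEquiv hS).symm)
      let eH := Subgroup.equivMapOfInjective H g.toMonoidHom g.injective
      haveI : (N.map eH.toMonoidHom).Normal := hNn.map _ eH.surjective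
      let q := QuotientGroup.congr N (N.map eH.toMonoidHom) eH rfl
      haveI := q.symm.isSimpleGroup
      refine classCongr q (sz_hereditary hS _ _ fun h => hne ⟨⟨fun a b => q.injective ?_⟩⟩)
      rw [map_mul, map_mul]; exact h.is_comm.comm _ _
    · let g : G ≃* Matrix.ProjectiveSpecialLinearGroup (Fin 2) F := e₀.symm.trans f
      let eH := Subgroup.equivMapOfInjective H g.toMonoidHom g.injective
      haveI : (N.map eH.toMonoidHom).Normal := hNn.map _ eH.surjective
      let q := QuotientGroup.congr N (N.map eH.toMonoidHom) eH rfl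
      haveI := q.symm.isSimpleGroup
      refine classCongr q (psl_hereditary hF _ _ fun h => hne ⟨⟨fun a b => q.injective ?_⟩⟩)
      rw [map_mul, map_mul]; exact h.is_comm.comm _ _
  have hnt : Nontrivial G := by
    by_contra h
    rw [not_nontrivial_iff_subsingleton] at h
    exact hne ⟨⟨fun a b => by
      obtain ⟨a, rfl⟩ := QuotientGroup.mk'_surjective N a
      obtain ⟨b, rfl⟩ := QuotientGroup.mk'_surjective N b
      rw [Subsingleton.elim a b]⟩⟩
  obtain ⟨M, hM, hMb, hMt⟩ : ∃ M : Subgroup G, M.Normal ∧ M ≠ ⊥ ∧ M ≠ ⊤ := by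
    by_contra hcon
    push Not at hcon
    exact hGs ⟨fun M hM => (em (M = ⊥)).imp id (hcon M hM)⟩
  have hM1 : Nat.card M < k := hk ▸ Grp.card_lt_of_ne_top hMt
  have hM2 : Nat.card (G ⧸ M) < k := by
    rw [← hk, ← Subgroup.index_eq_card, ← M.card_mul_index]
    haveI : Nontrivial M := (Subgroup.nontrivial_iff_ne_bot M).mpr hMb
    exact lt_mul_of_one_lt_left (Nat.pos_of_ne_zero Subgroup.index_ne_zero_of_finite) Finite.one_lt_card
  let f : H →* H ⧸ N := QuotientGroup.mk' N
  have hf : Function.Surjective f := QuotientGroup.mk'_surjective N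
  haveI : (M.subgroupOf H).Normal := hM.subgroupOf H
  haveI : ((M.subgroupOf H).map f).Normal := (inferInstance : (M.subgroupOf H).Normal).map f hf
  rcases (inferInstance : ((M.subgroupOf H).map f).Normal).eq_bot_or_eq_top with h | h
  · -- a section of the quotient
    have hle : M.subgroupOf H ≤ N := fun x hx =>
      (QuotientGroup.eq_one_iff x).mp (Subgroup.mem_bot.mp (h ▸ Subgroup.mem_map_of_mem f hx))
    let π : H →* H.map (QuotientGroup.mk' M) := (QuotientGroup.mk' M).subgroupMap H
    have hπ : Function.Surjective π := MonoidHom.subgroupMap_surjective _ _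
    haveI : (N.map π).Normal := hNn.map π hπ
    let q : H ⧸ N ≃* H.map (QuotientGroup.mk' M) ⧸ N.map π :=
      (QuotientGroup.quotientMulEquivOfEq (by
        rw [← MonoidHom.comap_ker, QuotientGroup.ker_mk', Subgroup.comap_map_eq, left_eq_sup]
        intro x hx
        exact hle ((QuotientGroup.eq_one_iff (x : G)).mp (congrArg Subtype.val hx)))).trans
        (QuotientGroup.quotientKerEquivOfSurjective ((QuotientGroup.mk' (N.map π)).comp π)
          ((QuotientGroup.mk'_surjective _).comp hπ))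
    haveI := q.symm.isSimpleGroup
    refine classCongr q (ih _ hM2 (G ⧸ M) rfl ?_ _ (N.map π) inferInstance fun hh =>
      hne ⟨⟨fun a b => q.injective (by rw [map_mul, map_mul]; exact hh.is_comm.comm _ _)⟩⟩)
    intro U hU W _ hsW hneW
    let σ : U.comap (QuotientGroup.mk' M) →* U := (QuotientGroup.mk' M).subgroupComap U
    have hσ : Function.Surjective σ :=
      MonoidHom.subgroupComap_surjective_of_surjective _ _ (QuotientGroup.mk'_surjective M)
    let q' : U.comap (QuotientGroup.mk' M) ⧸ W.comap σ ≃* U ⧸ W :=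
      (QuotientGroup.quotientMulEquivOfEq (by rw [← MonoidHom.comap_ker, QuotientGroup.ker_mk'])).trans
        (QuotientGroup.quotientKerEquivOfSurjective ((QuotientGroup.mk' W).comp σ)
          ((QuotientGroup.mk'_surjective W).comp hσ))
    haveI := q'.isSimpleGroup
    exact classCongr q'.symm (hc _ (hU.comap _) _ inferInstance fun hh =>
      hneW ⟨⟨fun a b => q'.symm.injective (by rw [map_mul, map_mul]; exact hh.is_comm.comm _ _)⟩⟩)
  · -- a section of the normal subgroup
    let J : Subgroup M := H.subgroupOf M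
    let j : J →* H := MonoidHom.mk' (fun x => ⟨((x : M) : G), x.2⟩) fun _ _ => rfl
    have hj : Function.Surjective (f.comp j) := by
      intro z
      obtain ⟨x, hx, hxz⟩ : z ∈ (M.subgroupOf H).map f := h ▸ Subgroup.mem_top z
      exact ⟨⟨⟨(x : G), hx⟩, x.2⟩, hxz⟩
    let q : J ⧸ (f.comp j).ker ≃* H ⧸ N := QuotientGroup.quotientKerEquivOfSurjective _ hj
    haveI := q.isSimpleGroup
    refine classCongr q.symm (ih _ hM1 M rfl ?_ J _ inferInstance fun hh =>
      hne ⟨⟨fun a b => q.symm.injective (by rw [map_mul, map_mul]; exact hh.is_comm.comm _ _)⟩⟩)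
    intro U hU W _ hsW hneW
    let eU := Subgroup.equivMapOfInjective U M.subtype M.subtype_injective
    haveI : (W.map eU.toMonoidHom).Normal := (inferInstance : W.Normal).map _ eU.surjective
    let q' := QuotientGroup.congr W (W.map eU.toMonoidHom) eU rfl
    haveI := q'.symm.isSimpleGroup
    exact classCongr q' (hc _ (hU.trans' hM.isSubnormal) _ inferInstance fun hh =>
      hneW ⟨⟨fun a b => q'.injective (by rw [map_mul, map_mul]; exact hh.is_comm.comm _ _)⟩⟩)

end Cfsg.Agent.Classical.SThree
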