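import Cfsg.Agent.Lib.Classical.SThree.Main
import Cfsg.Agent.Lib.Lie.Sz.Sylow

/-!
An element whose commutators with the nontrivial elements of an elementary abelian 2-group are not
2-elements.
-/

set_option autoImplicit false
set_option linter.unusedSectionVars false

namespace Cfsg.Agent.Classical.SThree

open Subgroup
open scoped Pointwise commutatorElement

universe u v

/-- A 2-element. -/
def IsTwoEl {H : Type*} [Monoid H] (x : H) : Prop := ∃ k : ℕ, x ^ 2 ^ k = 1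

/-- Every elementary abelian subgroup has a regular element which is not a 2-element. -/
def Regular (T : Type u) [Group T] : Prop :=
  ∀ W : Subgroup T, Cfsg.IsElementaryAbelian 2 W →
    ∃ x : T, ¬ IsTwoEl x ∧ ∀ w ∈ W, IsTwoEl (w * x * w⁻¹ * x⁻¹) → w = 1

section Sz

open Cfsg.Agent.Suz

variable {F : Type u} [Field F] [Fintype F] {m : ℕ}

theorem regular_sz (hS : SzField F m) : Regular ↥(Cfsg.Sz F m) := by
  haveI : Fact (Nat.Prime 2) := ⟨Nat.prime_two⟩
  intro W hW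
  have hWp : IsPGroup 2 W := fun w => ⟨1, Subtype.ext (by rw [pow_one]; exact hW.2 w w.2)⟩
  obtain ⟨P, hP⟩ := hWp.exists_le_sylow
  obtain ⟨d, hd⟩ := exists_conj_unip hS P
  set q := 2 ^ (2 * m + 1) with hq
  have hq1 : 1 < q := Nat.one_lt_two_pow (by omega)
  obtain ⟨r, hr, hrd⟩ := Nat.exists_prime_and_dvd (show q ^ 2 + 1 ≠ 1 by
    have : 0 < q ^ 2 := by positivity
    omega)
  haveI : Fact r.Prime := ⟨hr⟩
  have hr2 : r ≠ 2 := fun h => by
    subst h
    have h2n : 2 ∣ q ^ 2 := dvd_pow (dvd_pow_self 2 (by omega)) two_ne_zero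
    omega
  have hG : q ^ 2 + 1 ∣ Nat.card ↥(Cfsg.Sz F m) := ⟨q ^ 2 * (q - 1), by rw [card_Sz hS]; ring⟩
  obtain ⟨z, hz⟩ := exists_prime_orderOf_dvd_card' (G := ↥(Cfsg.Sz F m)) r (hrd.trans hG)
  have hzF : FPF m z := FPF_of_orderOf_dvd hS (hz ▸ hrd) (fun e => hr.ne_one (by rw [← hz, e, orderOf_one]))
  have hzb : z ∉ borel m F := fun hb => hzF none (by
    obtain ⟨a, b, t, rfl⟩ := borel_eq hS hb
    rw [mul_smul]
    exact (congrArg _ (hTor_inf hS t)).trans (uS_inf hS a b))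
  refine ⟨d * z * d⁻¹, ?_, fun w hw htwo => ?_⟩
  · rintro ⟨k, hk⟩
    rw [conj_pow, conj_eq_one_iff] at hk
    obtain ⟨i, hi, hio⟩ := (Nat.dvd_prime_pow Nat.prime_two).mp (orderOf_dvd_of_pow_eq_one hk)
    rcases Nat.eq_zero_or_pos i with rfl | hi0
    · rw [hz, pow_zero] at hio; exact hr.ne_one hio
    · exact hr2 ((Nat.prime_dvd_prime_iff_eq Nat.prime_two hr).mp
        ((dvd_pow_self 2 hi0.ne').trans (hio.symm.trans hz).dvd)).symm
  by_contra hw1
  set x := d * z * d⁻¹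
  have hw2 : orderOf w = 2 := orderOf_eq_prime (hW.2 w hw) hw1
  set v := x * w * x⁻¹
  have hv2 : orderOf v = 2 := by rw [Invol.orderOf_conj_eq, hw2]
  obtain ⟨k, hk⟩ := htwo
  have hwv : w * x * w⁻¹ * x⁻¹ = w * v := by
    rw [inv_eq_of_mul_eq_one_right (show w * w = 1 by rw [← pow_two]; exact hW.2 w hw)]
    simp only [v, mul_assoc]
  obtain ⟨i, -, hi⟩ := (Nat.dvd_prime_pow Nat.prime_two).mp (orderOf_dvd_of_pow_eq_one hk)
  have hpair := Invol.isPGroup_closure_pair hw2 hv2 (a := i) (by rw [← hwv]; exact hi)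
  obtain ⟨P', hP'⟩ := hpair.exists_le_sylow
  obtain ⟨e, he⟩ := exists_conj_unip hS P'
  have hwP : w ∈ (unip hS).map (MulAut.conj e).toMonoidHom :=
    he ▸ hP' (Subgroup.subset_closure (by simp))
  have hvP : v ∈ (unip hS).map (MulAut.conj e).toMonoidHom :=
    he ▸ hP' (Subgroup.subset_closure (by simp))
  obtain ⟨u₁, hu₁, hu₁w⟩ := (hd ▸ hP hw : w ∈ (unip hS).map (MulAut.conj d).toMonoidHom)
  obtain ⟨u₂, hu₂, hu₂w⟩ := hwP
  have hu₁1 : u₁ ≠ 1 := fun h => hw1 (by rw [← hu₁w, h, map_one])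
  have hde : d⁻¹ * e ∈ borel m F := by
    have hu₂1 : u₂ ≠ 1 := fun h => hw1 (by rw [← hu₂w, h, map_one])
    refine mem_borel_of_conj_mem hS hu₂ hu₂1 ?_
    have : d⁻¹ * e * u₂ * (d⁻¹ * e)⁻¹ = d⁻¹ * (e * u₂ * e⁻¹) * d := by group
    rw [this, show e * u₂ * e⁻¹ = w from hu₂w, ← hu₁w]
    show d⁻¹ * (d * u₁ * d⁻¹) * d ∈ unip hS
    rwa [show d⁻¹ * (d * u₁ * d⁻¹) * d = u₁ by group]
  obtain ⟨u₃, hu₃, hu₃v⟩ := hvP
  have hvd : d⁻¹ * v * d ∈ unip hS := by
    rw [← hu₃v]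
    show d⁻¹ * (e * u₃ * e⁻¹) * d ∈ unip hS
    rw [show d⁻¹ * (e * u₃ * e⁻¹) * d = (d⁻¹ * e) * u₃ * (d⁻¹ * e)⁻¹ by group]
    exact (Subgroup.mem_normalizer_iff.mp (borel_le_normalizer hS hde) u₃).mp hu₃
  refine hzb (mem_borel_of_conj_mem hS hu₁ hu₁1 ?_)
  have : d⁻¹ * v * d = z * u₁ * z⁻¹ := by
    simp only [v, x, ← hu₁w, MulEquiv.coe_toMonoidHom, MulAut.conj_apply]
    group
  rwa [this] at hvd

end Sz

section PSL

open Cfsg.Agent.Dickson Cfsg.Agent.PSL2Spec

variable {F : Type u} [Field F] [Fintype F] {n : ℕ}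

local notation "PSL₂" => Matrix.ProjectiveSpecialLinearGroup (Fin 2) F

theorem regular_psl (hF : Fintype.card F = 3 ^ (2 * n + 1)) (hn : 1 ≤ n) : Regular PSL₂ := by
  classical
  haveI : Fact (Nat.Prime 3) := ⟨Nat.prime_three⟩
  haveI : Fact (Nat.Prime 2) := ⟨Nat.prime_two⟩
  obtain ⟨h8, hodd, hch⟩ := card_facts hF
  have := Fintype.ofFinite PSL₂
  set q := Fintype.card F with hq
  have h27 : 27 ≤ q := by
    rw [hF]
    exact le_trans (by norm_num) (Nat.pow_le_pow_right (by norm_num) (show 3 ≤ 2 * n + 1 by omega))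
  intro W hW
  have hel : ∀ y : PSL₂, IsTwoEl y → y ^ 2 = 1 := by
    rintro y ⟨k, hk⟩
    have hp : IsPGroup 2 (Subgroup.zpowers y) := by
      rintro ⟨_, i, rfl⟩
      refine ⟨k, Subtype.ext ?_⟩
      show (y ^ i) ^ 2 ^ k = 1
      rw [← zpow_natCast, ← zpow_mul, mul_comm, zpow_mul, zpow_natCast, hk, one_zpow]
    obtain ⟨P, hP⟩ := hp.exists_le_sylow
    have hk4 := Cfsg.Agent.S0276.result (F := F) rfl (Or.inl h8) P
    have h := Monoid.pow_exponent_eq_one (⟨y, hP (Subgroup.mem_zpowers y)⟩ : (P : Subgroup PSL₂))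
    rw [hk4.exponent_two] at h
    exact congrArg Subtype.val h
  have hcomm : ∀ y z : PSL₂, orderOf y = 2 → orderOf z = 2 → IsTwoEl (y * z) → y * z = z * y := by
    intro y z hy hz h
    have h1 := hel _ h
    have hy2 : y⁻¹ = y := inv_eq_of_mul_eq_one_right ((pow_two y).symm.trans (orderOf_dvd_iff_pow_eq_one.mp hy.dvd))
    have hz2 : z⁻¹ = z := inv_eq_of_mul_eq_one_right ((pow_two z).symm.trans (orderOf_dvd_iff_pow_eq_one.mp hz.dvd))
    rw [pow_two] at h1
    calc y * z = (y * z)⁻¹ := (inv_eq_of_mul_eq_one_right h1).symm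
      _ = z * y := by rw [mul_inv_rev, hy2, hz2]
  let bad : PSL₂ → Finset PSL₂ := fun w =>
    Finset.univ.filter fun x => x * w * x⁻¹ ∈ Subgroup.centralizer ({w} : Set PSL₂)
  have hcen : ∀ w : PSL₂, orderOf w = 2 →
      Nat.card (Subgroup.centralizer ({w} : Set PSL₂)) ≤ q + 1 := by
    intro w hw
    obtain ⟨h1, hp, hww⟩ := involution_semi 3 hodd hw
    rw [centralizer_involution 3 h1 hp hww, (normalizer_tor 3 h1 hp).1,
      (card_tor_involution 3 hodd hw).2.2 (by omega), ← hq]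
    omega
  have hbad : ∀ w : PSL₂, orderOf w = 2 → (bad w).card ≤ (q + 1) * (q + 1) := by
    intro w hw
    set C := Subgroup.centralizer ({w} : Set PSL₂)
    let rep : PSL₂ → PSL₂ := fun c => if h : ∃ x, x * w * x⁻¹ = c then h.choose else 1
    have hrep : ∀ x : PSL₂, rep (x * w * x⁻¹) * w * (rep (x * w * x⁻¹))⁻¹ = x * w * x⁻¹ := by
      intro x
      have h : ∃ y, y * w * y⁻¹ = x * w * x⁻¹ := ⟨x, rfl⟩
      simp only [rep, dif_pos h]
      exact h.choose_spec
    let φ : {x // x ∈ bad w} → ↥C × ↥C := fun x =>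
      ((⟨x.1 * w * (x.1)⁻¹, (Finset.mem_filter.mp x.2).2⟩ : ↥C),
        (⟨(rep (x.1 * w * (x.1)⁻¹))⁻¹ * x.1, by
          show _ ∈ Subgroup.centralizer ({w} : Set PSL₂)
          rw [Subgroup.mem_centralizer_singleton_iff]
          have h := hrep x.1
          set r := rep (x.1 * w * (x.1)⁻¹)
          calc r⁻¹ * x.1 * w = r⁻¹ * (x.1 * w * (x.1)⁻¹) * x.1 := by group
            _ = r⁻¹ * (r * w * r⁻¹) * x.1 := by rw [h]
            _ = w * (r⁻¹ * x.1) := by group⟩ : ↥C))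
    have hinj : Function.Injective φ := by
      intro x y h
      have h1 : x.1 * w * (x.1)⁻¹ = y.1 * w * (y.1)⁻¹ := congrArg (fun p : ↥C × ↥C => (p.1 : PSL₂)) h
      have h2 : (rep (x.1 * w * (x.1)⁻¹))⁻¹ * x.1 = (rep (y.1 * w * (y.1)⁻¹))⁻¹ * y.1 :=
        congrArg (fun p : ↥C × ↥C => (p.2 : PSL₂)) h
      rw [h1] at h2
      exact Subtype.ext (mul_left_cancel h2)
    have h := Nat.card_le_card_of_injective φ hinj
    rw [Nat.card_prod, Nat.card_eq_fintype_card, Fintype.card_coe] at h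
    exact h.trans (Nat.mul_le_mul (hcen w hw) (hcen w hw))
  have hG : Nat.card PSL₂ * 2 = q * ((q - 1) * (q + 1)) := by
    have h := Classical.natCard_PSL_mul (F := F) 2 (by norm_num)
    have hg2 : Nat.gcd 2 (Nat.card Fˣ) = 2 := by
      rw [Classical.natCard_units_field]
      exact Nat.gcd_eq_left (by omega)
    rw [hg2, Fus.PSLTwo.natCard_SL_two] at h
    linarith
  set S₁ : Finset PSL₂ := Finset.univ.filter fun w => w ∈ W ∧ w ≠ 1 with hS₁
  have hS3 : S₁.card ≤ 3 := by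
    have h4 := (smallType_psl hF hn).1 W hW
    have hsub : S₁ ⊆ (Finset.univ.filter fun w => w ∈ W).erase 1 := fun w hw => by
      simp only [hS₁, Finset.mem_filter, Finset.mem_univ, true_and] at hw
      simp [hw.1, hw.2]
    refine (Finset.card_le_card hsub).trans ?_
    rw [Finset.card_erase_of_mem (by simp [one_mem]), ← Fintype.card_subtype]
    rw [Nat.card_eq_fintype_card] at h4
    have e : Fintype.card {x // x ∈ W} = Fintype.card W := Fintype.card_congr (Equiv.refl _)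
    omega
  set U := S₁.biUnion bad with hU
  have hUc : U.card < Fintype.card PSL₂ := by
    refine lt_of_le_of_lt (Finset.card_biUnion_le.trans (Finset.sum_le_card_nsmul _ _
      ((q + 1) * (q + 1)) fun w hw => hbad w ?_)) ?_
    · simp only [hS₁, Finset.mem_filter, Finset.mem_univ, true_and] at hw
      exact orderOf_eq_prime (hW.2 w hw.1) hw.2
    · rw [smul_eq_mul, ← Nat.card_eq_fintype_card]
      have h1 : S₁.card * ((q + 1) * (q + 1)) ≤ 3 * ((q + 1) * (q + 1)) := Nat.mul_le_mul_right _ hS3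
      have h2 : 6 * (q + 1) < q * (q - 1) := by
        have : q * 26 ≤ q * (q - 1) := Nat.mul_le_mul_left q (by omega)
        omega
      have h3 := Nat.mul_lt_mul_of_pos_right h2 (show 0 < q + 1 by omega)
      rw [mul_assoc q] at h3
      nlinarith
  obtain ⟨x₀, -, hx₀⟩ := Finset.exists_mem_notMem_of_card_lt_card
    (s := U) (t := Finset.univ) (by rwa [Finset.card_univ])
  have hgood₀ : ∀ w ∈ W, w ≠ 1 → x₀ * w * x₀⁻¹ ∉ Subgroup.centralizer ({w} : Set PSL₂) :=
    fun w hw hw1 h => hx₀ (by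
      simp only [hU, hS₁, bad, Finset.mem_biUnion, Finset.mem_filter, Finset.mem_univ, true_and]
      exact ⟨w, ⟨hw, hw1⟩, h⟩)
  have hab : ∀ a ∈ W, ∀ b ∈ W, a * b = b * a := fun a ha b hb =>
    congrArg Subtype.val (hW.1.is_comm.comm ⟨a, ha⟩ ⟨b, hb⟩)
  -- adjust to an element which is not a 2-element
  obtain ⟨x, hx, hgood⟩ : ∃ x : PSL₂, ¬ IsTwoEl x ∧
      ∀ w ∈ W, w ≠ 1 → x * w * x⁻¹ ∉ Subgroup.centralizer ({w} : Set PSL₂) := by
    by_cases hW1 : W = ⊥
    · obtain ⟨y, hy⟩ := exists_prime_orderOf_dvd_card' (G := PSL₂) 3 (by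
        have : 3 ∣ Nat.card PSL₂ * 2 := by
          rw [hG, hF]; exact dvd_mul_of_dvd_left (dvd_pow_self 3 (by omega)) _
        exact (Nat.Coprime.dvd_of_dvd_mul_right (by norm_num) this))
      refine ⟨y, fun h => ?_, fun w hw hw1 => absurd (Subgroup.mem_bot.mp (hW1 ▸ hw)) hw1⟩
      have := orderOf_dvd_of_pow_eq_one (hel y h)
      rw [hy] at this
      norm_num at this
    by_contra hcon
    push Not at hcon
    have key : ∀ c ∈ W, (x₀ * c) ^ 2 = 1 := by
      intro c hc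
      refine hel _ ?_
      by_contra h
      obtain ⟨w, hw, hw1, hbadw⟩ := hcon _ h
      refine hgood₀ w hw hw1 ?_
      rwa [show x₀ * c * w * (x₀ * c)⁻¹ = x₀ * (c * w * c⁻¹) * x₀⁻¹ by group, hab c hc w hw,
        mul_inv_cancel_right] at hbadw
    obtain ⟨w, hw, hw1⟩ := (Subgroup.bot_or_exists_ne_one W).resolve_left hW1
    refine hgood₀ w hw hw1 ?_
    have h0 := key 1 (one_mem W)
    have h1 := key w hw
    rw [mul_one, pow_two] at h0
    have hwi : w⁻¹ = w := inv_eq_of_mul_eq_one_right (by rw [← pow_two]; exact hW.2 w hw)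
    have hxi : x₀⁻¹ = x₀ := inv_eq_of_mul_eq_one_right h0
    have hcw : x₀ * w = w * x₀ := by
      rw [pow_two] at h1
      have := inv_eq_of_mul_eq_one_right h1
      rwa [mul_inv_rev, hwi, hxi, eq_comm] at this
    rw [hcw, mul_inv_cancel_right, Subgroup.mem_centralizer_singleton_iff]
  refine ⟨x, hx, fun w hw h2 => ?_⟩
  by_contra hw1
  have hwo : orderOf w = 2 := orderOf_eq_prime (hW.2 w hw) hw1
  have hwi : w⁻¹ = w := inv_eq_of_mul_eq_one_right (by rw [← pow_two]; exact hW.2 w hw)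
  have hvo : orderOf (x * w * x⁻¹) = 2 := by rw [Invol.orderOf_conj_eq, hwo]
  refine hgood w hw hw1 (Subgroup.mem_centralizer_singleton_iff.mpr (hcomm w _ hwo hvo ?_).symm)
  rw [show w * (x * w * x⁻¹) = w * x * w⁻¹ * x⁻¹ by rw [hwi]; group]
  exact h2

end PSL

end Cfsg.Agent.Classical.SThree
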