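import Cfsg.Agent.Lib.Classical.SThree.Sections
import Cfsg.Agent.Lib.Classical.SThree.Regular

/-!
An element of the layer regular for an elementary abelian group acting faithfully on the layer; the
index bound modulo the normal 2-subgroup of the image.
-/

set_option autoImplicit false
set_option linter.unusedSectionVars false
set_option linter.style.haveILetI false

namespace Cfsg.Agent.Classical.SThree

open Subgroup Cfsg.Agent.Invol Cfsg.Agent.Block.SFour
open scoped Pointwise commutatorElement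

universe u v

variable {G : Type u} [Group G] [Finite G]

theorem exists_regular_model (hc : Cfsg.IsCompositionKGroupWith Cfsg.IsSuzukiOrPSL2OddPowerThree G)
    {K : Subgroup G} (hK : Cfsg.IsComponent K) :
    ∃ (T : Type) (_ : Group T) (_ : CentQuot K T), InnOrThree T ∧ Regular T := by
  haveI : IsSimpleGroup (K ⧸ center K) := hK.2.2
  have hne : ¬ IsMulCommutative (K ⧸ center K) := by
    intro hcomm
    refine Grp.IsQuasisimple.not_isSolvable hK.2 ?_
    haveI : Group.IsSolvable (K ⧸ center K) := by open scoped IsMulCommutative in infer_instance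
    haveI : Group.IsSolvable (center K) := by open scoped IsMulCommutative in infer_instance
    exact Group.isSolvable_of_ker_le_range (center K).subtype (QuotientGroup.mk' (center K))
      (by rw [QuotientGroup.ker_mk', Subgroup.range_subtype])
  have key : ∀ (T : Type) [Group T] (e : K ⧸ center K ≃* T), Nonempty (CentQuot K T) := fun T _ e =>
    ⟨{ π := e.toMonoidHom.comp (QuotientGroup.mk' (center K))
       surj := e.surjective.comp (QuotientGroup.mk'_surjective _)
       ker := by ext x; simp [MonoidHom.mem_ker] }⟩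
  rcases hc K hK.1 (center K) inferInstance hne with ⟨F, _, _, m, hm, hF, ⟨e⟩⟩ | ⟨F, _, _, n, hF, ⟨e⟩⟩
  · exact ⟨_, _, (key _ (e.trans (Suz.szEquiv (⟨hm, hF⟩ : Suz.SzField F m)).symm)).some,
      innOrThree_sz ⟨hm, hF⟩, regular_sz ⟨hm, hF⟩⟩
  · refine ⟨_, _, (key _ e).some, innOrThree_psl hF, regular_psl hF (Nat.one_le_iff_ne_zero.mpr fun h0 => ?_)⟩
    subst h0
    obtain ⟨e₄⟩ := Cfsg.Agent.S0251.result (F := F) (by rw [hF]; rfl)
    exact not_isSimpleGroup_alt_four (e.trans e₄).symm.isSimpleGroup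

theorem exists_inner {K : Subgroup G} (hK : Cfsg.IsQuasisimple K) {T : Type v} [Group T]
    (Q : CentQuot K T) (hinn : InnOrThree T) (hn3 : NoThree G) {n : normalizer (K : Set G)}
    (h2 : n * n = 1) : ∃ w : T, Q.act n = MulAut.conj w := by
  have hf : Q.act n * Q.act n = 1 := by rw [← map_mul, h2, map_one]
  rcases hinn (Q.act n) hf with ⟨w, hw⟩ | ⟨g, r, hr3, hr1, hrinv, hinvol⟩
  · exact ⟨w, hw.symm⟩
  exfalso
  have hconj := Q.conj_injective hK
  obtain ⟨k, rfl⟩ := Q.surj g
  obtain ⟨l, rfl⟩ := Q.surj r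
  refine (hn3.subgroup (normalizer (K : Set G))).map Q.act.rangeRestrict
    Q.act.rangeRestrict_surjective ?_
  have e : ∀ k : K, MulAut.conj (Q.π k) ∈ Q.act.range := fun k => ⟨_, Q.act_self k⟩
  refine ⟨⟨Q.act n * MulAut.conj (Q.π k), mul_mem ⟨_, rfl⟩ (e k)⟩, ⟨MulAut.conj (Q.π l), e l⟩,
    ⟨1, Subtype.ext (by rw [pow_one, pow_two]; exact hinvol)⟩, Subtype.ext ?_, ?_, Subtype.ext ?_⟩
  · show MulAut.conj (Q.π l) ^ 3 = 1
    rw [← map_pow, hr3, map_one]
  · intro h
    exact hr1 (hconj ((congrArg Subtype.val h).trans (map_one _).symm))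
  · show Q.act n * MulAut.conj (Q.π k) * MulAut.conj (Q.π l) * (Q.act n * MulAut.conj (Q.π k))⁻¹ =
      (MulAut.conj (Q.π l))⁻¹
    rw [← map_inv, ← hrinv]
    refine MulEquiv.ext fun x => ?_
    simp only [MulAut.mul_apply, MulAut.conj_apply, map_mul, map_inv, MulAut.apply_inv_self]

/-- The commutator with some element of a component. -/
theorem exists_component_regular (hn3 : NoThree G)
    (hc : Cfsg.IsCompositionKGroupWith Cfsg.IsSuzukiOrPSL2OddPowerThree G)
    {A K : Subgroup G} (hA : Cfsg.IsElementaryAbelian 2 A) (hK : Cfsg.IsComponent K) :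
    ∃ y ∈ K, ∀ a ∈ A, ∀ k : ℕ,
      (a * y * a⁻¹ * y⁻¹) ^ 2 ^ k ∈ centralizer (Cfsg.layer G : Set G) →
      a ∈ normalizer (K : Set G) ∧ a ∈ centralizer (K : Set G) := by
  obtain ⟨T, _, Q, hinn, hreg⟩ := exists_regular_model hc hK
  have hconj := Q.conj_injective hK.2
  set N := A ⊓ normalizer (K : Set G) with hN
  let β : N →* MulAut T := Q.act.comp (Subgroup.inclusion (inf_le_right : N ≤ _))
  have hinv : ∀ n : N, n * n = 1 := fun n =>
    Subtype.ext (by rw [Subgroup.coe_mul, ← pow_two]; exact hA.2 n n.2.1)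
  have hin : ∀ n : N, ∃ w : T, β n = MulAut.conj w := fun n => exists_inner hK.2 Q hinn hn3 (by
    rw [← map_mul, hinv, map_one])
  choose τ hτ using hin
  set W : Subgroup T := β.range.comap MulAut.conj with hW
  have hWel : Cfsg.IsElementaryAbelian 2 W := by
    refine ⟨⟨⟨fun a b => Subtype.ext (hconj ?_)⟩⟩, fun a ha => hconj ?_⟩
    · obtain ⟨n, hn⟩ := a.2
      obtain ⟨m, hm⟩ := b.2
      show MulAut.conj ((a : T) * b) = MulAut.conj ((b : T) * a)
      rw [map_mul, map_mul, ← hn, ← hm, ← map_mul, ← map_mul]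
      exact congrArg β (Subtype.ext ((isEl_iff.mp hA).1 n n.2.1 m m.2.1))
    · obtain ⟨n, hn⟩ := ha
      rw [map_pow, map_one, ← hn, ← map_pow, pow_two, hinv, map_one]
  obtain ⟨x, hx, hxW⟩ := hreg W hWel
  obtain ⟨y, rfl⟩ := Q.surj x
  have hKE : ∀ z ∈ centralizer (Cfsg.layer G : Set G), ∀ k ∈ K, k * z = z * k := fun z hz k hk =>
    Subgroup.mem_centralizer_iff.mp hz k (Grp.IsComponent.le_layer hK hk)
  have hcen : ∀ z : K, (z : G) ∈ centralizer (K : Set G) → Q.π z = 1 := fun z hz => by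
    rw [← MonoidHom.mem_ker, Q.ker, Subgroup.mem_center_iff]
    exact fun k => Subtype.ext (Subgroup.mem_centralizer_iff.mp hz k k.2)
  refine ⟨y, y.2, fun a ha k hk => ?_⟩
  by_cases haN : a ∈ normalizer (K : Set G)
  · refine ⟨haN, ?_⟩
    set n : N := ⟨a, ha, haN⟩
    set ν : normalizer (K : Set G) := ⟨a, haN⟩
    set c := K.normalizerMonoidHom ν y * y⁻¹ with hc'
    have hcv : (c : G) = a * y * a⁻¹ * (y : G)⁻¹ := rfl
    have h1 : Q.π (c ^ 2 ^ k) = 1 := hcen _ (Subgroup.mem_centralizer_iff.mpr fun l hl => by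
      rw [SubmonoidClass.coe_pow, hcv]; exact hKE _ hk l hl)
    have h2 : Q.π c = τ n * Q.π y * (τ n)⁻¹ * (Q.π y)⁻¹ := by
      rw [hc', map_mul, map_inv, ← Q.act_apply, show Q.act ν = β n from rfl, hτ, MulAut.conj_apply]
    have h3 : τ n = 1 := hxW _ ⟨n, hτ n⟩ ⟨k, by rw [← h2, ← map_pow, h1]⟩
    refine Subgroup.mem_centralizer_iff.mpr fun l hl => ?_
    have h4 : Q.act ν = 1 := by
      show β n = 1
      rw [hτ, h3, map_one]
    exact (Q.commute_of_act_eq_one hK.2 h4 ⟨l, hl⟩).symm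
  · exfalso
    have hne : MulAut.conj a • K ≠ K := fun h => haN (Grp.mem_normalizer_iff_smul.mpr h)
    have hcc := Grp.IsComponent.commute (Grp.IsComponent.conj hK a) hK hne
    set y' := a * (y : G) * a⁻¹
    have hy' : y' ∈ MulAut.conj a • K := Subgroup.smul_mem_pointwise_smul _ _ _ y.2
    have hyc : Commute y' (y : G)⁻¹ :=
      (Subgroup.mem_centralizer_iff.mp (hcc hy') _ (K.inv_mem y.2)).symm
    rw [hyc.mul_pow, inv_pow] at hk
    refine hx ⟨k, ?_⟩
    rw [← map_pow]
    refine hcen _ (Subgroup.mem_centralizer_iff.mpr fun l hl => ?_)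
    rw [SubmonoidClass.coe_pow]
    have h1 : Commute l (y' ^ 2 ^ k) := Subgroup.mem_centralizer_iff.mp
      (hcc (pow_mem hy' _)) l hl
    have h2 : Commute l (y' ^ 2 ^ k * ((y : G) ^ 2 ^ k)⁻¹) := hKE _ hk l hl
    have h3 := (h1.inv_right.mul_right h2)
    rw [inv_mul_cancel_left] at h3
    exact (inv_inv ((y : G) ^ 2 ^ k) ▸ h3.inv_right).eq

/-- A regular element in the layer. -/
theorem exists_regular_layer (hn3 : NoThree G)
    (hc : Cfsg.IsCompositionKGroupWith Cfsg.IsSuzukiOrPSL2OddPowerThree G)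
    {A : Subgroup G} (hA : Cfsg.IsElementaryAbelian 2 A)
    (hfaith : ∀ a ∈ A, a ∈ centralizer (Cfsg.layer G : Set G) → a = 1) :
    ∃ g : G, ∀ a ∈ A, IsTwoEl (a * g * a⁻¹ * g⁻¹) → a = 1 := by
  classical
  set E := centralizer (Cfsg.layer G : Set G)
  have key : ∀ (j : ℕ) (S : Set (Subgroup G)), S.ncard = j → (∀ K ∈ S, Cfsg.IsComponent K) →
      (∀ a ∈ A, ∀ K ∈ S, MulAut.conj a • K ∈ S) →
      ∃ g ∈ sSup S, ∀ a ∈ A, ∀ k : ℕ, (a * g * a⁻¹ * g⁻¹) ^ 2 ^ k ∈ E →
        ∀ K ∈ S, a ∈ centralizer (K : Set G) := by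
    intro j
    induction j using Nat.strong_induction_on with
    | _ j ih =>
    intro S hj hScomp hSA
    rcases S.eq_empty_or_nonempty with rfl | ⟨K, hKS⟩
    · exact ⟨1, one_mem _, fun a _ _ _ K hK => absurd hK (Set.notMem_empty K)⟩
    set O : Set (Subgroup G) := {L | ∃ a ∈ A, L = MulAut.conj a • K} with hO
    have hOS : O ⊆ S := by rintro _ ⟨a, ha, rfl⟩; exact hSA a ha K hKS
    have hKO : K ∈ O := ⟨1, A.one_mem, by rw [map_one, one_smul]⟩
    have hS' : ∀ a ∈ A, ∀ L ∈ S \ O, MulAut.conj a • L ∈ S \ O := by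
      rintro a ha L ⟨hL, hLO⟩
      refine ⟨hSA a ha L hL, ?_⟩
      rintro ⟨b, hb, e⟩
      exact hLO ⟨a⁻¹ * b, A.mul_mem (A.inv_mem ha) hb, by
        rw [map_mul, mul_smul, ← e, map_inv, inv_smul_smul]⟩
    have hlt : (S \ O).ncard < j := by
      rw [← hj]
      exact Set.ncard_lt_ncard ⟨Set.diff_subset, fun h => (h hKS).2 hKO⟩ (Set.toFinite S)
    obtain ⟨g', hg', hgood⟩ := ih _ hlt (S \ O) rfl (fun L hL => hScomp L hL.1) hS'
    obtain ⟨y, hy, hyreg⟩ := exists_component_regular hn3 hc hA (hScomp K hKS)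
    have hyO : y ∈ sSup O := le_sSup (show K ∈ O from hKO) hy
    refine ⟨y * g', Subgroup.mul_mem _ (sSup_le_sSup hOS hyO)
      ((sSup_le_sSup Set.diff_subset : sSup (S \ O) ≤ sSup S) hg'), fun a ha k hk => ?_⟩
    set R₁ := sSup O
    set R₂ := sSup (S \ O)
    have hR : R₁ ≤ centralizer (R₂ : Set G) := sSup_le fun L hL => Subgroup.le_centralizer_iff.mp
      (sSup_le fun L' hL' => Grp.IsComponent.commute (hScomp L' hL'.1) (hScomp L (hOS hL))
        fun e => hL'.2 (e ▸ hL))
    have hinvR : ∀ (P : Set (Subgroup G)), (∀ L ∈ P, MulAut.conj a • L ∈ P) →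
        ∀ z ∈ sSup P, a * z * a⁻¹ ∈ sSup P := by
      intro P hP z hz
      have hle : sSup P ≤ (sSup P).comap (MulAut.conj a).toMonoidHom :=
        sSup_le fun L hL u hu => le_sSup (hP L hL) (Subgroup.smul_mem_pointwise_smul _ _ _ hu)
      exact hle hz
    have hOA : ∀ L ∈ O, MulAut.conj a • L ∈ O := by
      rintro _ ⟨b, hb, rfl⟩
      exact ⟨a * b, A.mul_mem ha hb, by rw [map_mul, mul_smul]⟩
    set x := a * y * a⁻¹ * y⁻¹ with hx
    set x' := a * g' * a⁻¹ * g'⁻¹ with hx'
    have hx1 : x ∈ R₁ := R₁.mul_mem (hinvR O hOA y hyO) (R₁.inv_mem hyO)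
    have hx2 : x' ∈ R₂ := R₂.mul_mem (hinvR _ (hS' a ha) g' hg') (R₂.inv_mem hg')
    have e : a * (y * g') * a⁻¹ * (y * g')⁻¹ = x * x' := by
      have h1 : Commute x' y⁻¹ := Subgroup.mem_centralizer_iff.mp (hR (R₁.inv_mem hyO)) x' hx2
      calc a * (y * g') * a⁻¹ * (y * g')⁻¹ = a * y * a⁻¹ * (x' * y⁻¹) := by rw [hx']; group
        _ = _ := by rw [h1.eq, hx]; group
    have hcomm : Commute x x' := (Subgroup.mem_centralizer_iff.mp (hR hx1) x' hx2).symm
    rw [e, hcomm.mul_pow] at hk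
    have hxE : x ^ 2 ^ k ∈ E := by
      refine (show Cfsg.layer G ≤ centralizer ({x ^ 2 ^ k} : Set G) from sSup_le fun L hL => ?_) |>
        (fun h => Subgroup.mem_centralizer_iff.mpr fun l hl =>
          Subgroup.mem_centralizer_singleton_iff.mp (h hl))
      intro l hl
      rw [Subgroup.mem_centralizer_singleton_iff]
      by_cases hLO : L ∈ O
      · have h1 : Commute l ((x ^ 2 ^ k) * (x' ^ 2 ^ k)) :=
          Subgroup.mem_centralizer_iff.mp hk l (Grp.IsComponent.le_layer hL hl)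
        have h2 : Commute l (x' ^ 2 ^ k) :=
          (Subgroup.mem_centralizer_iff.mp (hR (le_sSup (show L ∈ O from hLO) hl)) _ (pow_mem hx2 _)).symm
        have h3 := h1.mul_right h2.inv_right
        rwa [mul_inv_cancel_right] at h3
      · have h4 : R₁ ≤ centralizer (L : Set G) := sSup_le fun L' hL' =>
          Grp.IsComponent.commute (hScomp L' (hOS hL')) hL fun e => hLO (e ▸ hL')
        exact Subgroup.mem_centralizer_iff.mp (h4 (pow_mem hx1 _)) l hl
    have hx'E : x' ^ 2 ^ k ∈ E := by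
      have h1 := E.mul_mem (E.inv_mem hxE) hk
      rwa [inv_mul_cancel_left] at h1
    intro L hL
    by_cases hLO : L ∈ O
    · obtain ⟨b, hb, rfl⟩ := hLO
      obtain ⟨-, haC⟩ := hyreg a ha k hxE
      refine Subgroup.mem_centralizer_iff.mpr fun l hl => ?_
      obtain ⟨u, hu, rfl⟩ := (Subgroup.mem_smul_pointwise_iff_exists _ _ _).mp hl
      show (b * u * b⁻¹) * a = a * (b * u * b⁻¹)
      have hab : Commute a b := (isEl_iff.mp hA).1 a ha b hb
      have hau : Commute a u := (Subgroup.mem_centralizer_iff.mp haC u hu).symm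
      exact ((hab.mul_right hau).mul_right hab.inv_right).symm.eq
    · exact hgood a ha k hx'E L ⟨hL, hLO⟩
  obtain ⟨g, -, hg⟩ := key _ {K | Cfsg.IsComponent K} rfl (fun K hK => hK)
    fun a _ K hK => Grp.IsComponent.conj hK a
  refine ⟨g, fun a ha h => hfaith a ha ?_⟩
  obtain ⟨k, hk⟩ := h
  have hall := hg a ha k (hk ▸ E.one_mem)
  have hle : Cfsg.layer G ≤ centralizer ({a} : Set G) := sSup_le fun L hL l hl =>
    Subgroup.mem_centralizer_singleton_iff.mpr (Subgroup.mem_centralizer_iff.mp (hall L hL) l hl)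
  exact Subgroup.mem_centralizer_iff.mpr fun l hl =>
    Subgroup.mem_centralizer_singleton_iff.mp (hle hl)

variable {V : Type u} [CommGroup V] [Finite V]

/-- The index bound modulo the normal 2-subgroup of the image. -/
theorem dom_series : ∀ (n : ℕ) (V : Type u) [CommGroup V] [Finite V] (α : G →* MulAut V),
    Nat.card V = n → (∀ v : V, v ^ 2 = 1) → NoThree G →
    Cfsg.IsKGroupWith Cfsg.IsSuzukiOrPSL2OddPowerThree G →
    ∀ A : Subgroup G, Cfsg.IsElementaryAbelian 2 A →
      (((Cfsg.pCore 2 α.range).comap α.rangeRestrict).relIndex A) ^ 2 ≤ (fixOf α A).index := by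
  haveI : Fact (Nat.Prime 2) := ⟨Nat.prime_two⟩
  intro n
  induction n using Nat.strong_induction_on with
  | _ n ih =>
  intro V _ _ α hn hV hn3 hKG A hA
  set R := Cfsg.pCore 2 α.range
  haveI : R.Normal := Grp.pCore_isNormal
  have hρ := α.rangeRestrict_surjective
  have hKR : Cfsg.IsCompositionKGroupWith Cfsg.IsSuzukiOrPSL2OddPowerThree α.range := by
    intro U _ W _ hs hne
    let σ : U.comap α.rangeRestrict →* U := α.rangeRestrict.subgroupComap U
    have hσ : Function.Surjective σ := MonoidHom.subgroupComap_surjective_of_surjective _ _ hρ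
    let q : U.comap α.rangeRestrict ⧸ W.comap σ ≃* U ⧸ W :=
      (QuotientGroup.quotientMulEquivOfEq (by rw [← MonoidHom.comap_ker, QuotientGroup.ker_mk'])).trans
        (QuotientGroup.quotientKerEquivOfSurjective ((QuotientGroup.mk' W).comp σ)
          ((QuotientGroup.mk'_surjective W).comp hσ))
    haveI := q.isSimpleGroup
    exact classCongr q.symm (hKG _ _ inferInstance fun hh => hne ⟨⟨fun a b =>
      q.symm.injective (by rw [map_mul, map_mul]; exact hh.is_comm.comm _ _)⟩⟩)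
  by_cases hR : R = ⊥
  · have hb := dom_faithful (α := α.range.subtype) α.range.subtype_injective hV hR
      (hn3.map α.rangeRestrict hρ) (goodComps_of_composition hKR) _ (A.map α.rangeRestrict) rfl
      (isEl_map hA _)
    have e1 : Nat.card (A.map α.rangeRestrict) = (R.comap α.rangeRestrict).relIndex A := by
      rw [hR, MonoidHom.comap_bot, Subgroup.relIndex_ker]
    have e2 : fixOf α.range.subtype (A.map α.rangeRestrict) = fixOf α A := by
      ext v
      exact ⟨fun h a ha => h _ ⟨a, ha, rfl⟩, fun h => by rintro _ ⟨a, ha, rfl⟩; exact h a ha⟩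
    rwa [e1, e2] at hb
  set P := R.comap α.rangeRestrict with hP
  haveI : P.Normal := (inferInstance : R.Normal).comap _
  set U := fixOf α P with hUdef
  have hU : ∀ g : G, ∀ u ∈ U, α g u ∈ U := fun g u hu p hp => by
    have := hu _ ((inferInstance : P.Normal).conj_mem p hp g⁻¹)
    rw [inv_inv, map_mul, map_mul, MulAut.mul_apply, MulAut.mul_apply, map_inv] at this
    conv_rhs => rw [← this, MulAut.apply_inv_self]
  have hUtop : U ≠ ⊤ := by
    intro htop
    refine hR ((Subgroup.eq_bot_iff_forall R).mpr fun z hz => ?_)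
    obtain ⟨x, rfl⟩ := hρ z
    exact Subtype.ext (MulEquiv.ext fun v => (show v ∈ U from htop ▸ mem_top v) x hz)
  have hUbot : U ≠ ⊥ := by
    intro hbot
    haveI : Nontrivial V := by
      by_contra hnt
      rw [not_nontrivial_iff_subsingleton] at hnt
      exact hUtop (Subsingleton.elim _ _)
    obtain ⟨u, -, hu1, hu⟩ := exists_fixed_ne_one (isPGroup_of_inv_two hV)
      (P := R.map α.range.subtype) (Grp.pCore_isPGroup.map _)
      (D := (⊤ : Subgroup V)) top_ne_bot (fun f _ => fun v _ => Subgroup.mem_top _)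
    have : u ∈ U := fun p hp => hu _ ⟨α.rangeRestrict p, hp, rfl⟩
    rw [hbot, Subgroup.mem_bot] at this
    exact hu1 this
  have hlt1 : Nat.card U < n := hn ▸ Grp.card_lt_of_ne_top hUtop
  have hlt2 : Nat.card (V ⧸ U) < n := by
    rw [← hn, ← Subgroup.index_eq_card, ← U.card_mul_index]
    haveI : Nontrivial U := (Subgroup.nontrivial_iff_ne_bot U).mpr hUbot
    exact lt_mul_of_one_lt_left (Nat.pos_of_ne_zero Subgroup.index_ne_zero_of_finite) Finite.one_lt_card
  set γ₁ := restrictAct α U hU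
  set γ₂ := quotientAct α U hU
  have h1 := ih _ hlt1 U γ₁ rfl (fun u => Subtype.ext (by rw [SubmonoidClass.coe_pow]; exact hV _))
    hn3 hKG A hA
  have h2 := ih _ hlt2 (V ⧸ U) γ₂ rfl (fun q => by
    induction q using QuotientGroup.induction_on with
    | H w => rw [← QuotientGroup.mk_pow, hV w, QuotientGroup.mk_one]) hn3 hKG A hA
  set P₁ := (Cfsg.pCore 2 γ₁.range).comap γ₁.rangeRestrict
  set P₂ := (Cfsg.pCore 2 γ₂.range).comap γ₂.rangeRestrict
  haveI : P₁.Normal := (Grp.pCore_isNormal (p := 2) (G := γ₁.range)).comap _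
  haveI : P₂.Normal := (Grp.pCore_isNormal (p := 2) (G := γ₂.range)).comap _
  have hle : P₁ ⊓ P₂ ≤ P := by
    intro x hx
    refine Grp.le_pCore (p := 2) ((inferInstance : (P₁ ⊓ P₂).Normal).map α.rangeRestrict hρ) ?_
      ⟨x, hx, rfl⟩
    rintro ⟨_, y, hy, rfl⟩
    obtain ⟨k₁, hk₁⟩ := Grp.pCore_isPGroup (p := 2) ⟨γ₁.rangeRestrict y, hy.1⟩
    obtain ⟨k₂, hk₂⟩ := Grp.pCore_isPGroup (p := 2) ⟨γ₂.rangeRestrict y, hy.2⟩
    set j := y ^ 2 ^ (k₁ + k₂) with hj
    have e1 : γ₁ j = 1 := by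
      have := congrArg (fun z : Cfsg.pCore 2 γ₁.range => ((z : γ₁.range) : MulAut U)) hk₁
      rw [hj, map_pow, pow_add, pow_mul]
      rw [show γ₁ y ^ 2 ^ k₁ = 1 from this, one_pow]
    have e2 : γ₂ j = 1 := by
      have := congrArg (fun z : Cfsg.pCore 2 γ₂.range => ((z : γ₂.range) : MulAut (V ⧸ U))) hk₂
      rw [hj, map_pow, pow_add, mul_comm, pow_mul]
      rw [show γ₂ y ^ 2 ^ k₂ = 1 from this, one_pow]
    refine ⟨k₁ + k₂ + 1, Subtype.ext (Subtype.ext ?_)⟩
    show α y ^ 2 ^ (k₁ + k₂ + 1) = 1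
    rw [pow_succ, pow_mul, ← map_pow, ← hj, ← map_pow, pow_two, map_mul]
    refine MulEquiv.ext fun v => ?_
    have hv : α j v / v ∈ U := by
      have := DFunLike.congr_fun e2 (v : V ⧸ U)
      rwa [quotientAct_mk, MulAut.one_apply, QuotientGroup.eq_iff_div_mem] at this
    have hw : α j (α j v / v) = α j v / v := by
      have := DFunLike.congr_fun e1 (⟨α j v / v, hv⟩ : U)
      exact congrArg Subtype.val this
    show α j (α j v) = v
    have h3 : α j (α j v) = α j v / v * α j v := by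
      conv_lhs => rw [show α j v = α j v / v * v by rw [div_mul_cancel]]
      rw [map_mul, hw]
    rw [h3, div_eq_mul_inv, mul_assoc, mul_comm v⁻¹, ← mul_assoc, ← pow_two, hV, one_mul,
      inv_eq_of_mul_eq_one_right (show v * v = 1 by rw [← pow_two]; exact hV v)]
  have h3 : P.relIndex A ≤ P₁.relIndex A * P₂.relIndex A := by
    have hne : (P₁ ⊓ P₂).relIndex A ≠ 0 := Subgroup.index_ne_zero_of_finite
    exact (Nat.le_of_dvd (Nat.pos_of_ne_zero hne) (Subgroup.relIndex_dvd_of_le_left A hle)).trans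
      Subgroup.relIndex_inf_le
  calc _ ≤ (P₁.relIndex A * P₂.relIndex A) ^ 2 := Nat.pow_le_pow_left h3 2
    _ = P₁.relIndex A ^ 2 * P₂.relIndex A ^ 2 := by ring
    _ ≤ _ := Nat.mul_le_mul (h1.trans (le_of_eq (index_restrictAct A U hU))) h2
    _ ≤ _ := index_fix_mul_le A U hU

end Cfsg.Agent.Classical.SThree
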