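import Cfsg.Agent.Lib.Invol.RegularInversionFamilies
import Cfsg.Agent.Lib.Lie.Sz.Out
import Cfsg.Agent.Lib.Lie.Sz.LieEquiv
import Cfsg.Agent.Lib.Classical.PSLFieldAut
import Cfsg.Agent.Lib.Classical.DicksonCentral
import Cfsg.Agent.S0276

/-!
The two kinds of simple groups without a section `S₃`: `Sz(2^(2m+1))` and `PSL₂(3^(2n+1))`.
-/

set_option autoImplicit false
set_option linter.unusedSectionVars false

namespace Cfsg.Agent.Classical.SThree

open Cfsg.Agent.Invol.RegInv

universe u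

/-- An automorphism of order two outside the inner ones yields an inverted element of order
three. -/
def InnOrThree (T : Type u) [Group T] : Prop :=
  ∀ f : MulAut T, f * f = 1 →
    f ∈ (MulAut.conj : T →* MulAut T).range ∨
      ∃ g r : T, r ^ 3 = 1 ∧ r ≠ 1 ∧ (f * MulAut.conj g) r = r⁻¹ ∧
        (f * MulAut.conj g) * (f * MulAut.conj g) = 1

/-- Every involution inverts an element of large primitive order. -/
def BigType (T : Type u) [Group T] : Prop :=
  ∃ N, Inverts T N ∧ ∀ W : Subgroup T, Cfsg.IsElementaryAbelian 2 W → Nat.card W ^ 4 ≤ 2 ^ N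

/-- 2-rank two, and the centraliser of an involution moved by the others. -/
def SmallType (T : Type u) [Group T] : Prop :=
  (∀ W : Subgroup T, Cfsg.IsElementaryAbelian 2 W → Nat.card W ≤ 4) ∧
    ∀ t s : T, orderOf t = 2 → orderOf s = 2 → t ≠ s → t * s = s * t →
      ∃ x : T, x ≠ 1 ∧ Odd (orderOf x) ∧ t * x = x * t ∧ s * x * s⁻¹ = x⁻¹

/-- The property of simple groups used. -/
def Model (T : Type u) [Group T] : Prop := InnOrThree T ∧ (BigType T ∨ SmallType T)

section Sz

open Cfsg.Agent.Suz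

variable {F : Type u} [Field F] [Fintype F] {m : ℕ}

theorem card_el_sz (hS : SzField F m) (W : Subgroup ↥(Cfsg.Sz F m))
    (hW : Cfsg.IsElementaryAbelian 2 W) : Nat.card W ≤ 2 ^ (2 * m + 1) := by
  haveI : Fact (Nat.Prime 2) := ⟨Nat.prime_two⟩
  classical
  have hWp : IsPGroup 2 W := fun w => ⟨1, Subtype.ext (by rw [pow_one]; exact hW.2 w w.2)⟩
  obtain ⟨P, hP⟩ := hWp.exists_le_sylow
  obtain ⟨d, hd⟩ := exists_conj_unip hS P
  have key : ∀ w : W, ∃ b : F, (w : ↥(Cfsg.Sz F m)) = d * uS hS 0 b * d⁻¹ := by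
    intro w
    obtain ⟨v, hv, hvw⟩ := (hd ▸ hP w.2 :
      (w : ↥(Cfsg.Sz F m)) ∈ (unip hS).map (MulAut.conj d).toMonoidHom)
    have hv2 : v ^ 2 = 1 := (MulAut.conj d).injective (by
      rw [map_pow, map_one]
      show ((MulAut.conj d).toMonoidHom v) ^ 2 = 1
      rw [hvw]; exact hW.2 w w.2)
    obtain ⟨a, b, rfl⟩ := (mem_unip hS).1 hv
    rw [uS_sq, ← uS_zero hS] at hv2
    have ha : a = 0 := by
      rcases mul_eq_zero.mp (uS_injective hS hv2).2 with h | h
      · exact pow_eq_zero_iff (pow_ne_zero _ two_ne_zero) |>.mp h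
      · exact h
    subst ha
    exact ⟨b, hvw.symm⟩
  choose b hb using key
  have hinj : Function.Injective b := fun v w h => Subtype.ext (by rw [hb v, hb w, h])
  calc Nat.card W ≤ Nat.card F := Nat.card_le_card_of_injective b hinj
    _ = 2 ^ (2 * m + 1) := by rw [Nat.card_eq_fintype_card, hS.card]

theorem innOrThree_sz (hS : SzField F m) : InnOrThree ↥(Cfsg.Sz F m) := by
  intro f hf
  left
  have h1 : (QuotientGroup.mk f : Cfsg.Out ↥(Cfsg.Sz F m)) ^ 2 = 1 := by
    rw [← QuotientGroup.mk_pow, pow_two, hf, QuotientGroup.mk_one]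
  have h2 : (QuotientGroup.mk f : Cfsg.Out ↥(Cfsg.Sz F m)) ^ (2 * m + 1) = 1 := by
    rw [← card_Out hS]; exact pow_card_eq_one'
  rw [← QuotientGroup.eq_one_iff]
  rwa [pow_succ, pow_mul, h1, one_pow, one_mul] at h2

theorem model_sz (hS : SzField F m) : Model ↥(Cfsg.Sz F m) :=
  ⟨innOrThree_sz hS, Or.inl ⟨4 * (2 * m + 1), inverts_of_equiv (szEquiv hS).symm (inverts_Sz hS),
    fun W hW => by
      rw [mul_comm, pow_mul]
      exact Nat.pow_le_pow_left (card_el_sz hS W hW) 4⟩⟩

end Sz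

section PSL

open Cfsg.Agent.Dickson Cfsg.Agent.PSL2Spec Matrix

variable {F : Type u} [Field F] [Fintype F] {n : ℕ}

local notation "PSL₂" => Matrix.ProjectiveSpecialLinearGroup (Fin 2) F

theorem card_facts (hF : Fintype.card F = 3 ^ (2 * n + 1)) :
    Fintype.card F % 8 = 3 ∧ Odd (Fintype.card F) ∧ CharP F 3 := by
  haveI : Fact (Nat.Prime 3) := ⟨Nat.prime_three⟩
  refine ⟨?_, ?_, charP_of_card_eq_prime_pow hF⟩
  · rw [hF, pow_succ, pow_mul, Nat.mul_mod, Nat.pow_mod]; norm_num
  · rw [hF]; exact (by decide : Odd 3).pow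

theorem smallType_psl (hF : Fintype.card F = 3 ^ (2 * n + 1)) (hn : 1 ≤ n) :
    SmallType PSL₂ := by
  haveI : Fact (Nat.Prime 3) := ⟨Nat.prime_three⟩
  haveI : Fact (Nat.Prime 2) := ⟨Nat.prime_two⟩
  obtain ⟨h8, hodd, hch⟩ := card_facts hF
  have h27 : 27 ≤ Fintype.card F := by
    rw [hF]
    exact le_trans (by norm_num) (Nat.pow_le_pow_right (by norm_num) (show 3 ≤ 2 * n + 1 by omega))
  refine ⟨fun W hW => ?_, fun t s ht hs hts hcomm => ?_⟩
  · have hWp : IsPGroup 2 W := fun w => ⟨1, Subtype.ext (by rw [pow_one]; exact hW.2 w w.2)⟩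
    obtain ⟨P, hP⟩ := hWp.exists_le_sylow
    have hk := Cfsg.Agent.S0276.result (F := F) rfl (Or.inl h8) P
    exact (Subgroup.card_le_of_le hP).trans hk.card_four.le
  · obtain ⟨ht1, htp, htt⟩ := involution_semi 3 hodd ht
    obtain ⟨hs1, hsp, hss⟩ := involution_semi 3 hodd hs
    set D := pslData (F := F) 3
    haveI : IsCyclic (tor t) := D.semi_cyclic ht1 htp
    obtain ⟨-, -, hcard⟩ := card_tor_involution 3 hodd ht
    have hc : Nat.card (tor t) = (Fintype.card F + 1) / 2 := hcard (by omega)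
    have hsC : s ∈ Subgroup.normalizer (tor t : Set PSL₂) := by
      rw [← centralizer_involution 3 ht1 htp htt, Subgroup.mem_centralizer_singleton_iff]
      exact hcomm.symm
    have hsnot : s ∉ tor t := by
      intro hmem
      classical
      have hu := IsCyclic.card_pow_eq_one_le (α := tor t) (n := 2) two_pos
      have hsub : ({1, ⟨t, D.self t⟩, ⟨s, hmem⟩} : Finset (tor t)) ⊆
          ({x : tor t | x ^ 2 = 1} : Finset _) := by
        intro x hx
        simp only [Finset.mem_insert, Finset.mem_singleton] at hx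
        rw [Finset.mem_filter]
        refine ⟨Finset.mem_univ _, ?_⟩
        rcases hx with rfl | rfl | rfl
        · exact one_pow 2
        · exact Subtype.ext (by rw [SubmonoidClass.coe_pow, pow_two]; exact htt)
        · exact Subtype.ext (by rw [SubmonoidClass.coe_pow, pow_two]; exact hss)
      have h3 : ({1, ⟨t, D.self t⟩, ⟨s, hmem⟩} : Finset (tor t)).card = 3 := by
        refine Finset.card_eq_three.2 ⟨_, _, _, ?_, ?_, ?_, rfl⟩
        · exact fun e => ht1 (congrArg Subtype.val e).symm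
        · exact fun e => hs1 (congrArg Subtype.val e).symm
        · exact fun e => hts (congrArg Subtype.val e)
      have := (Finset.card_le_card hsub).trans hu
      omega
    set k := (Fintype.card F + 1) / 4 with hk
    obtain ⟨x, hx, hxo⟩ := exists_orderOf_dvd 3 ht1 htp (n := k) ⟨2, by rw [hc]; omega⟩
    refine ⟨x, fun e => ?_, ?_, (D.comm ht1 (D.self t) hx).eq,
      (D.semi_flip ht1 htp ((D.mem_normalizer_iff ht1).mp hsC) hsnot).2 x hx⟩
    · rw [e, orderOf_one] at hxo; omega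
    · rw [hxo, Nat.odd_iff]; omega

theorem innOrThree_psl (hF : Fintype.card F = 3 ^ (2 * n + 1)) : InnOrThree PSL₂ := by
  haveI : Fact (Nat.Prime 3) := ⟨Nat.prime_three⟩
  obtain ⟨h8, hodd, hch⟩ := card_facts hF
  intro f hf
  obtain ⟨Ψ, hker, -, hΨ⟩ := PSLAut.exists_fieldGraphHom (F := F) (n := 2) (p := 3) le_rfl
  have hf2 : Ψ f ^ 2 = 1 := by rw [← map_pow, pow_two, hf, map_one]
  have hσ : (Ψ f).1 = 1 := by
    have h1 : (Ψ f).1 ^ 2 = 1 := congrArg Prod.fst hf2
    have h2 : (Ψ f).1 ^ (2 * n + 1) = 1 := by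
      conv_lhs => rw [← (PSLAut.card_ringAut (F := F) hF).2]
      exact pow_card_eq_one'
    rwa [pow_succ, pow_mul, h1, one_pow, one_mul] at h2
  have hmem : f ∈ Ψ.ker := MonoidHom.mem_ker.2 (Prod.ext hσ ((hΨ rfl).1 f))
  rw [hker] at hmem
  obtain ⟨g, rfl⟩ := hmem
  -- the matrix of determinant minus one
  obtain ⟨d, hd1, hd2⟩ := PSLAut.exists_diag_det (F := F) (n := 2) one_le_two (-1)
  set w := Matrix.GeneralLinearGroup.det g with hw
  have hnsq : ¬ IsSquare (-1 : F) := by
    rw [FiniteField.isSquare_neg_one_iff]; omega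
  have hsq : IsSquare (w : F) ∨ IsSquare (-(w : F)) := by
    by_cases h : IsSquare (w : F)
    · exact Or.inl h
    · right
      have h2 : ringChar F ≠ 2 := by rw [ringChar.eq F 3]; norm_num
      have hm0 : (-1 : F) ≠ 0 := neg_ne_zero.2 one_ne_zero
      rw [FiniteField.isSquare_iff h2 hm0] at hnsq
      rw [FiniteField.isSquare_iff h2 w.ne_zero] at h
      rw [FiniteField.isSquare_iff h2 (neg_ne_zero.2 w.ne_zero), ← neg_one_mul, mul_pow,
        (FiniteField.pow_dichotomy h2 hm0).resolve_left hnsq,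
        (FiniteField.pow_dichotomy h2 w.ne_zero).resolve_left h]
      ring
  have hinner : ∀ g₀ : GL (Fin 2) F, IsSquare (Matrix.GeneralLinearGroup.det g₀ : F) →
      PSLAut.inndiagHom 2 F g₀ ∈ (MulAut.conj : PSL₂ →* MulAut PSL₂).range := by
    intro g₀ hg₀
    obtain ⟨c, hc⟩ := hg₀
    have hc0 : c ≠ 0 := fun e =>
      (Matrix.GeneralLinearGroup.det g₀).ne_zero (by rw [hc, e, mul_zero])
    let cu : Fˣ := Units.mk0 c hc0
    have hdet : ((cu⁻¹ : Fˣ) • (g₀ : Matrix (Fin 2) (Fin 2) F)).det = 1 := by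
      rw [Units.smul_def, Matrix.det_smul, Fintype.card_fin,
        show (g₀ : Matrix (Fin 2) (Fin 2) F).det = c * c by rw [← hc]; rfl]
      simp [cu, hc0, pow_two]
      field_simp
    let S₀ : Matrix.SpecialLinearGroup (Fin 2) F := ⟨_, hdet⟩
    refine ⟨slToPSL 2 F S₀, ?_⟩
    rw [PSLAut.conj_eq_pslSemi]
    have h2 : g₀ = Matrix.GeneralLinearGroup.scalar (Fin 2) cu *
        Matrix.SpecialLinearGroup.toGL S₀ := by
      refine Units.ext ?_
      rw [Units.val_mul, Matrix.GeneralLinearGroup.coe_scalar, Matrix.scalar_apply,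
        ← Matrix.smul_eq_diagonal_mul]
      show _ = (cu : F) • ((cu⁻¹ : Fˣ) • (g₀ : Matrix (Fin 2) (Fin 2) F))
      rw [Units.smul_def, smul_smul, ← Units.val_mul, mul_inv_cancel, Units.val_one, one_smul]
    conv_rhs => rw [h2, map_mul, PSLAut.inndiagHom_apply,
      (PSLAut.pslSemi_eq_one_iff le_rfl).2 ⟨rfl, cu, rfl⟩, one_mul, PSLAut.inndiagHom_apply]
  rcases hsq with hsq | hsq
  · exact Or.inl (hinner g hsq)
  · right
    obtain ⟨y, hy⟩ := hinner (g⁻¹ * d) (by
      rw [map_mul, map_inv, hd1, ← hw, Units.val_mul, Units.val_inv_eq_inv_val]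
      obtain ⟨c, hc⟩ := hsq
      have hw0 : (w : F) ≠ 0 := w.ne_zero
      refine ⟨c / (w : F), ?_⟩
      have hwc : (w : F) = -(c * c) := by rw [← hc, neg_neg]
      rw [Units.val_neg, Units.val_one, div_mul_div_comm, ← hc]
      field_simp)
    have he : PSLAut.inndiagHom 2 F g * MulAut.conj y = PSLAut.inndiagHom 2 F d := by
      rw [hy, ← map_mul, mul_inv_cancel_left]
    let T : SpecialLinearGroup (Fin 2) F := ⟨!![1, 1; 0, 1], by simp [Matrix.det_fin_two]⟩
    have hdd : d * d = 1 := Units.ext (by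
      rw [Units.val_mul, hd2, Matrix.diagonal_mul_diagonal, Units.val_one, ← Matrix.diagonal_one]
      congr 1
      funext i
      fin_cases i <;> simp)
    refine ⟨y, slToPSL 2 F T, ?_, ?_, ?_, ?_⟩
    · rw [← map_pow]
      refine (congrArg _ (?_ : T ^ 3 = 1)).trans (map_one _)
      refine Subtype.ext ?_
      have h3 : (3 : F) = 0 := by exact_mod_cast CharP.cast_eq_zero F 3
      rw [Matrix.SpecialLinearGroup.coe_pow, show (T : Matrix (Fin 2) (Fin 2) F) = !![1, 1; 0, 1] from rfl]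
      ext i j
      fin_cases i <;> fin_cases j <;>
        simp [pow_succ, Matrix.mul_apply, Fin.sum_univ_two]
      linear_combination h3
    · intro e
      have h1 := QuotientGroup.eq_one_iff T |>.1 e
      rw [Matrix.SpecialLinearGroup.mem_center_iff] at h1
      obtain ⟨r, -, hr⟩ := h1
      have := congrFun (congrFun hr 0) 1
      simp [T] at this
    · rw [he, PSLAut.inndiagHom_apply, PSLAut.pslSemi_mk, ← map_inv]
      refine congrArg _ (Subtype.ext ?_)
      rw [PSLAut.slSemi_coe, Matrix.SpecialLinearGroup.coe_inv]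
      have hdi : d⁻¹ = d := inv_eq_of_mul_eq_one_right hdd
      rw [hdi, hd2]
      ext i j
      fin_cases i <;> fin_cases j <;>
        simp [T, Matrix.adjugate_fin_two, Matrix.mul_apply, Fin.sum_univ_two, Matrix.vecMul, dotProduct]
    · rw [he, ← map_mul, hdd, map_one]

theorem model_psl (hF : Fintype.card F = 3 ^ (2 * n + 1)) (hn : 1 ≤ n) : Model PSL₂ :=
  ⟨innOrThree_psl hF, Or.inr (smallType_psl hF hn)⟩

end PSL

end Cfsg.Agent.Classical.SThree
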