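import Cfsg.Agent.Lib.Classical.SThree.Diag
import Cfsg.Agent.Lib.Classical.SThree.Models
import Cfsg.Agent.S0200

/-!
A component without section `S₃` under an elementary abelian group of automorphisms.
-/

set_option autoImplicit false
set_option linter.unusedSectionVars false

namespace Cfsg.Agent.Classical.SThree

open Subgroup Cfsg.Agent.Invol Cfsg.Agent.Block.SFour
open scoped Pointwise commutatorElement

universe u v

variable {G : Type u} [Group G] [Finite G]

/-- The power of odd order of a given odd-order image. -/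
theorem exists_odd_lift {H : Type*} [Group H] [Finite H] {T : Type*} [Group T] (f : H →* T)
    (hf : Function.Surjective f) {x : T} (hx : Odd (orderOf x)) :
    ∃ y : H, f y = x ∧ Odd (orderOf y) := by
  obtain ⟨y, rfl⟩ := hf x
  obtain ⟨a, b, hb, hab⟩ := Nat.exists_eq_two_pow_mul_odd (orderOf_pos y).ne'
  have hc : (2 ^ a).Coprime (orderOf (f y)) := (Nat.coprime_two_left.mpr hx).pow_left a
  obtain ⟨m, hm⟩ := exists_pow_eq_self_of_coprime hc
  refine ⟨(y ^ 2 ^ a) ^ m, by rw [map_pow, map_pow, hm], ?_⟩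
  have : orderOf (y ^ 2 ^ a) = b := by
    rw [orderOf_pow' _ (pow_ne_zero _ two_ne_zero), hab, Nat.gcd_eq_right (dvd_mul_right _ b),
      Nat.mul_div_cancel_left _ (pow_pos two_pos a)]
  exact (this.symm ▸ hb).of_dvd_nat (orderOf_pow_dvd m)

variable {K : Subgroup G} {T : Type v} [Group T] (Q : CentQuot K T)

namespace CentQuot

/-- The action of the normaliser on the central quotient. -/
noncomputable def act : (normalizer (K : Set G)) →* MulAut T :=
  let e : K ⧸ center K ≃* T := (QuotientGroup.quotientMulEquivOfEq Q.ker.symm).trans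
    (QuotientGroup.quotientKerEquivOfSurjective Q.π Q.surj)
  let q : MulAut K →* MulAut (K ⧸ center K) := MonoidHom.mk'
    (fun f => QuotientGroup.congr _ _ f (Subgroup.characteristic_iff_map_eq.1 inferInstance f))
    fun f g => MulEquiv.ext fun x => by
      induction x using QuotientGroup.induction_on with
      | H y => rfl
  (MulAut.congr e).toMonoidHom.comp (q.comp K.normalizerMonoidHom)

theorem act_apply (n : normalizer (K : Set G)) (k : K) :
    Q.act n (Q.π k) = Q.π (K.normalizerMonoidHom n k) := by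
  set e : K ⧸ center K ≃* T := (QuotientGroup.quotientMulEquivOfEq Q.ker.symm).trans
    (QuotientGroup.quotientKerEquivOfSurjective Q.π Q.surj) with he
  have hk : e (k : K ⧸ center K) = Q.π k := rfl
  have h1 : Q.act n (Q.π k) = e (QuotientGroup.congr _ _ (K.normalizerMonoidHom n)
      (Subgroup.characteristic_iff_map_eq.1 inferInstance _) (e.symm (Q.π k))) := rfl
  rw [h1, ← hk, e.symm_apply_apply]
  rfl

theorem act_self (k : K) :
    Q.act ⟨(k : G), Subgroup.le_normalizer k.2⟩ = MulAut.conj (Q.π k) := by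
  refine MulEquiv.ext fun x => ?_
  obtain ⟨y, rfl⟩ := Q.surj x
  rw [act_apply, MulAut.conj_apply, ← map_inv, ← map_mul, ← map_mul]
  rfl

include Q in
theorem center_eq_bot (hK : Cfsg.IsQuasisimple K) : center T = ⊥ := by
  haveI : IsSimpleGroup (K ⧸ center K) := hK.2
  let e : K ⧸ center K ≃* T := (QuotientGroup.quotientMulEquivOfEq Q.ker.symm).trans
    (QuotientGroup.quotientKerEquivOfSurjective Q.π Q.surj)
  haveI : IsSimpleGroup T := e.symm.isSimpleGroup
  rcases (inferInstance : (center T).Normal).eq_bot_or_eq_top with h | h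
  · exact h
  exfalso
  have hT : ∀ a b : T, ⁅a, b⁆ = 1 := fun a b => by
    rw [commutatorElement_eq_one_iff_mul_comm]
    exact Subgroup.mem_center_iff.mp (h ▸ mem_top b) a
  have h2 : ⁅(⊤ : Subgroup K), ⊤⁆ ≤ Q.π.ker := by
    rw [Subgroup.commutator_le]
    intro a _ b _
    rw [MonoidHom.mem_ker, map_commutatorElement, hT]
  have h3 : (⊤ : Subgroup K) ≤ Q.π.ker := le_trans
    (le_of_eq (by haveI := hK.1; exact (Group.IsPerfect.commutator_eq_top (G := K)).symm)) h2
  obtain ⟨x, hx⟩ := exists_ne (1 : T)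
  obtain ⟨k, rfl⟩ := Q.surj x
  exact hx (h3 (mem_top k))

include Q in
theorem conj_injective (hK : Cfsg.IsQuasisimple K) :
    Function.Injective (MulAut.conj : T →* MulAut T) := by
  rw [← MonoidHom.ker_eq_bot_iff, eq_bot_iff, ← Q.center_eq_bot hK]
  intro x hx
  rw [Subgroup.mem_center_iff]
  intro y
  have := DFunLike.congr_fun (MonoidHom.mem_ker.mp hx) y
  rw [MulAut.conj_apply, MulAut.one_apply, mul_inv_eq_iff_eq_mul] at this
  exact this.symm

/-- A trivial action on the central quotient is a trivial action. -/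
theorem commute_of_act_eq_one (hK : Cfsg.IsQuasisimple K) {n : normalizer (K : Set G)}
    (h : Q.act n = 1) : ∀ k : K, (n : G) * k = k * n := by
  let d : K →* K := MonoidHom.mk' (fun k => k⁻¹ * K.normalizerMonoidHom n k) fun a b => by
    have hz : a⁻¹ * K.normalizerMonoidHom n a ∈ center K := by
      rw [← Q.ker, MonoidHom.mem_ker, map_mul, map_inv, ← Q.act_apply, h, MulAut.one_apply,
        inv_mul_cancel]
    simp only [map_mul, mul_inv_rev]
    have := Subgroup.mem_center_iff.mp hz b⁻¹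
    calc b⁻¹ * a⁻¹ * (K.normalizerMonoidHom n a * K.normalizerMonoidHom n b)
        = b⁻¹ * (a⁻¹ * K.normalizerMonoidHom n a) * K.normalizerMonoidHom n b := by
          simp only [mul_assoc]
      _ = _ := by rw [this]; simp only [mul_assoc]
  have hd : ∀ k, d k = 1 := by
    have h2 : ⁅(⊤ : Subgroup K), ⊤⁆ ≤ d.ker := by
      rw [Subgroup.commutator_le]
      intro a _ b _
      rw [MonoidHom.mem_ker, map_commutatorElement, commutatorElement_eq_one_iff_mul_comm]
      refine (Subgroup.mem_center_iff.mp ?_ (d a))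
      rw [← Q.ker, MonoidHom.mem_ker]
      show Q.π (b⁻¹ * K.normalizerMonoidHom n b) = 1
      rw [map_mul, map_inv, ← Q.act_apply, h, MulAut.one_apply, inv_mul_cancel]
    intro k
    exact h2 ((by haveI := hK.1; exact (Group.IsPerfect.commutator_eq_top (G := K)).symm :
      (⊤ : Subgroup K) = ⁅(⊤ : Subgroup K), ⊤⁆) ▸ mem_top k)
  intro k
  have h1 : K.normalizerMonoidHom n k = k := by
    have := hd k
    exact (inv_mul_eq_one.mp this).symm
  have h2 : (n : G) * k * (n : G)⁻¹ = k := congrArg Subtype.val h1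
  exact mul_inv_eq_iff_eq_mul.mp h2

end CentQuot

/-- What a component offers to an elementary abelian group normalising it. -/
def CompWit (K N : Subgroup G) : Prop :=
  (∃ M : Subgroup G, M ≤ N ∧ M.relIndex N = 2 ∧ ∃ n ∈ N, ∃ y : K, y ∉ center K ∧ Odd (orderOf y) ∧
      (n * y * n⁻¹ = (y : G)⁻¹) ∧ ∀ m ∈ M, m * y = y * m) ∨
  (∃ (n : G) (y : K) (r b c e : ℕ), n ∈ N ∧ r.Prime ∧ r ≠ 2 ∧ 1 ≤ b ∧ orderOf y = r ^ c ∧
      (∀ i, y ^ i ∈ center K → r ^ b ∣ i) ∧ (n * y * n⁻¹ = (y : G)⁻¹) ∧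
      (∀ j, 1 ≤ j → r ^ b ∣ 2 ^ j - 1 → e ≤ j) ∧
      (N ⊓ centralizer (K : Set G)).relIndex N ^ 4 ≤ 2 ^ e)

/-- A lift of an element of odd order that is inverted by `n` and centralised by `M`. -/
theorem exists_lift_inverted {N M : Subgroup G} (hN : Cfsg.IsElementaryAbelian 2 N)
    (hNK : N ≤ normalizer (K : Set G))
    (hZ : ∀ n ∈ N, ∀ z : K, z ∈ center K → n * (z : G) = z * n) (hMN : M ≤ N) {n : G} (hn : n ∈ N) {x : T}
    (hx : Odd (orderOf x)) (hinv : Q.act ⟨n, hNK hn⟩ x = x⁻¹)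
    (hM : ∀ m (hm : m ∈ M), Q.act ⟨m, hNK (hMN hm)⟩ x = x) :
    ∃ y : K, Q.π y = x⁻¹ * x⁻¹ ∧ Odd (orderOf y) ∧ (n * y * n⁻¹ = (y : G)⁻¹) ∧
      ∀ m ∈ M, m * y = y * m := by
  obtain ⟨y₀, hy₀, hyo⟩ := exists_odd_lift Q.π Q.surj hx
  have hab : ∀ a ∈ N, ∀ b ∈ N, a * b = b * a := fun a ha b hb =>
    congrArg Subtype.val (hN.1.is_comm.comm ⟨a, ha⟩ ⟨b, hb⟩)
  have hsq : ∀ a ∈ N, a * a = 1 := fun a ha => by rw [← pow_two]; exact hN.2 a ha
  have hfix : ∀ m ∈ M, m * y₀ = y₀ * m := by
    intro m hm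
    set ν : normalizer (K : Set G) := ⟨m, hNK (hMN hm)⟩
    set z := y₀⁻¹ * K.normalizerMonoidHom ν y₀ with hz
    have hzc : z ∈ center K := by
      rw [← Q.ker, MonoidHom.mem_ker, hz, map_mul, map_inv, ← Q.act_apply, hy₀, hM m hm,
        inv_mul_cancel]
    have h1 : K.normalizerMonoidHom ν y₀ = y₀ * z := by rw [hz, mul_inv_cancel_left]
    have hzo : Odd (orderOf z) := by
      have hcm : Commute y₀⁻¹ (K.normalizerMonoidHom ν y₀) := by
        rw [h1]
        exact ((Commute.refl y₀).inv_left).mul_right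
          (Subgroup.mem_center_iff.mp hzc y₀⁻¹)
      refine Odd.of_dvd_nat ?_ (hcm.orderOf_mul_dvd_mul_orderOf)
      rw [orderOf_inv, MulEquiv.orderOf_eq]
      exact hyo.mul hyo
    have h2 : K.normalizerMonoidHom ν (K.normalizerMonoidHom ν y₀) = y₀ := by
      rw [← MulAut.mul_apply, ← map_mul, show ν * ν = 1 from Subtype.ext (hsq m (hMN hm)), map_one,
        MulAut.one_apply]
    have hzν : K.normalizerMonoidHom ν z = z⁻¹ := by
      have h3 := h2
      rw [h1, map_mul, h1, mul_assoc, mul_eq_left] at h3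
      exact (inv_eq_of_mul_eq_one_right h3).symm
    have hz2 : K.normalizerMonoidHom ν z = z := Subtype.ext (by
      show m * (z : G) * m⁻¹ = z
      rw [hZ m (hMN hm) z hzc, mul_inv_cancel_right])
    have hz1 : z = 1 := by
      have h5 : z ^ 2 = 1 := by
        rw [pow_two]
        nth_rw 1 [← inv_inv z]
        rw [← hzν, hz2, inv_mul_cancel]
      have := pow_gcd_eq_one.2 ⟨h5, pow_orderOf_eq_one z⟩
      rwa [Nat.Coprime.gcd_eq_one (Nat.coprime_two_left.mpr hzo), pow_one] at this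
    rw [hz1, mul_one] at h1
    exact mul_inv_eq_iff_eq_mul.mp (congrArg Subtype.val h1)
  set ν : normalizer (K : Set G) := ⟨n, hNK hn⟩
  set y := K.normalizerMonoidHom ν y₀ * y₀⁻¹ with hy
  have hπy : Q.π y = x⁻¹ * x⁻¹ := by rw [hy, map_mul, map_inv, ← Q.act_apply, hy₀, hinv]
  have hcm : Commute (K.normalizerMonoidHom ν y₀) y₀⁻¹ := by
    have hzc : y₀ * K.normalizerMonoidHom ν y₀ ∈ center K := by
      rw [← Q.ker, MonoidHom.mem_ker, map_mul, ← Q.act_apply, hy₀, hinv, mul_inv_cancel]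
    have h := Subgroup.mem_center_iff.mp hzc y₀
    rw [mul_assoc, mul_left_cancel_iff] at h
    exact (show Commute (K.normalizerMonoidHom ν y₀) y₀ from h.symm).inv_right
  refine ⟨y, hπy, ?_, ?_, fun m hm => ?_⟩
  · refine Odd.of_dvd_nat ?_ hcm.orderOf_mul_dvd_mul_orderOf
    rw [orderOf_inv, MulEquiv.orderOf_eq]
    exact hyo.mul hyo
  · have hni : n⁻¹ = n := inv_eq_of_mul_eq_one_right (hsq n hn)
    show n * (n * y₀ * n⁻¹ * (y₀ : G)⁻¹) * n⁻¹ = (n * y₀ * n⁻¹ * (y₀ : G)⁻¹)⁻¹
    calc _ = (n * n) * y₀ * (n * n)⁻¹ * (n * y₀ * n⁻¹)⁻¹ := by group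
      _ = _ := by rw [hsq n hn]; group
  · have h1 : Commute m (y₀ : G) := hfix m hm
    have h2 : Commute m n := hab m (hMN hm) n hn
    exact (((h2.mul_right h1).mul_right h2.inv_right).mul_right h1.inv_right).eq

end Cfsg.Agent.Classical.SThree
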