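import Cfsg.Agent.Lib.Classical.SThree.Comp

/-!
Every elementary abelian group acting nontrivially on a component has a witness on it.
-/

set_option autoImplicit false
set_option linter.unusedSectionVars false

namespace Cfsg.Agent.Classical.SThree

open Subgroup Cfsg.Agent.Invol Cfsg.Agent.Block.SFour
open scoped Pointwise commutatorElement

universe u v

variable {G : Type u} [Group G] [Finite G] {K : Subgroup G} {T : Type v} [Group T]
  (Q : CentQuot K T)

include Q in
theorem compWit_of_model (hT : Model T) (hK : Cfsg.IsQuasisimple K) (hn3 : NoThree G)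
    {N : Subgroup G} (hN : Cfsg.IsElementaryAbelian 2 N) (hNK : N ≤ normalizer (K : Set G))
    (hZ : ∀ n ∈ N, ∀ z : K, z ∈ center K → n * (z : G) = z * n)
    (hne : ¬ N ≤ centralizer (K : Set G)) : CompWit K N := by
  classical
  haveI : Fact (Nat.Prime 2) := ⟨Nat.prime_two⟩
  haveI : Finite T := Finite.of_surjective Q.π Q.surj
  obtain ⟨hinn, htype⟩ := hT
  let β : N →* MulAut T := Q.act.comp (Subgroup.inclusion hNK)
  have hsq : ∀ a ∈ N, a * a = 1 := fun a ha => by rw [← pow_two]; exact hN.2 a ha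
  have hconj := Q.conj_injective hK
  -- the action is by inner automorphisms
  have hin : ∀ n : N, β n ∈ (MulAut.conj : T →* MulAut T).range := by
    intro n
    have hf : β n * β n = 1 := by rw [← map_mul, show n * n = 1 from Subtype.ext (hsq n n.2), map_one]
    refine (hinn (β n) hf).resolve_right ?_
    rintro ⟨g, r, hr3, hr1, hrinv, hinvol⟩
    obtain ⟨k, rfl⟩ := Q.surj g
    obtain ⟨l, rfl⟩ := Q.surj r
    refine (hn3.subgroup (normalizer (K : Set G))).map Q.act.rangeRestrict
      Q.act.rangeRestrict_surjective ?_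
    have e : ∀ k : K, MulAut.conj (Q.π k) ∈ Q.act.range := fun k => ⟨_, Q.act_self k⟩
    refine ⟨⟨β n * MulAut.conj (Q.π k), mul_mem ⟨_, rfl⟩ (e k)⟩, ⟨MulAut.conj (Q.π l), e l⟩,
      ⟨1, Subtype.ext (by rw [pow_one, pow_two]; exact hinvol)⟩, Subtype.ext ?_, ?_, Subtype.ext ?_⟩
    · show MulAut.conj (Q.π l) ^ 3 = 1
      rw [← map_pow, hr3, map_one]
    · intro h
      exact hr1 (hconj ((congrArg Subtype.val h).trans (map_one _).symm))
    · show β n * MulAut.conj (Q.π k) * MulAut.conj (Q.π l) * (β n * MulAut.conj (Q.π k))⁻¹ =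
        (MulAut.conj (Q.π l))⁻¹
      rw [← map_inv, ← hrinv]
      refine MulEquiv.ext fun x => ?_
      simp only [MulAut.mul_apply, MulAut.conj_apply, map_mul, map_inv, MulAut.apply_inv_self]
  choose τ hτ using hin
  have hβC : ∀ n : N, β n = 1 ↔ (n : G) ∈ centralizer (K : Set G) := by
    intro n
    constructor
    · intro h
      rw [Subgroup.mem_centralizer_iff]
      intro k hk
      exact (Q.commute_of_act_eq_one hK h ⟨k, hk⟩).symm
    · intro h
      refine MulEquiv.ext fun x => ?_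
      obtain ⟨k, rfl⟩ := Q.surj x
      show Q.act _ (Q.π k) = _
      rw [Q.act_apply, MulAut.one_apply]
      refine congrArg _ (Subtype.ext ?_)
      show (n : G) * k * (n : G)⁻¹ = k
      rw [← Subgroup.mem_centralizer_iff.mp h k k.2, mul_inv_cancel_right]
  set W : Subgroup T := β.range.comap MulAut.conj with hWdef
  have hWel : Cfsg.IsElementaryAbelian 2 W := by
    refine ⟨⟨⟨fun a b => Subtype.ext (hconj ?_)⟩⟩, fun a ha => hconj ?_⟩
    · show MulAut.conj ((a : T) * b) = MulAut.conj ((b : T) * a)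
      obtain ⟨n, hn⟩ := a.2
      obtain ⟨m, hm⟩ := b.2
      rw [map_mul, map_mul, ← hn, ← hm, ← map_mul, ← map_mul]
      exact congrArg β (hN.1.is_comm.comm n m)
    · obtain ⟨n, hn⟩ := ha
      rw [map_pow, map_one, ← hn, ← map_pow, show n ^ 2 = 1 from Subtype.ext (hN.2 n n.2), map_one]
  have hWcard : (N ⊓ centralizer (K : Set G)).relIndex N = Nat.card W := by
    have h1 : W.map (MulAut.conj : T →* MulAut T) = β.range := by
      rw [hWdef, Subgroup.map_comap_eq, inf_eq_right]
      rintro _ ⟨n, rfl⟩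
      exact ⟨τ n, hτ n⟩
    rw [Nat.card_congr (Subgroup.equivMapOfInjective W _ hconj).toEquiv, h1, inf_comm, Subgroup.inf_relIndex_right,
      Subgroup.relIndex, ← Subgroup.index_ker]
    congr 1
    ext n
    rw [Subgroup.mem_subgroupOf, MonoidHom.mem_ker, hβC]
  -- a moved element
  obtain ⟨n₁, hn₁N, hn₁C⟩ := SetLike.not_le_iff_exists.mp hne
  set t := τ ⟨n₁, hn₁N⟩ with ht
  have hord : ∀ {n : N}, β n ≠ 1 → orderOf (τ n) = 2 := by
    intro n h
    refine orderOf_eq_prime (hconj ?_) fun e => h (by rw [← hτ n, e, map_one])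
    rw [map_pow, hτ, map_one, ← map_pow, show n ^ 2 = 1 from Subtype.ext (hN.2 n n.2), map_one]
  have hn₁ : β ⟨n₁, hn₁N⟩ ≠ 1 := fun h => hn₁C ((hβC _).mp h)
  have hact : ∀ (n : G) (hn : n ∈ N) (x : T), Q.act ⟨n, hNK hn⟩ x = τ ⟨n, hn⟩ * x * (τ ⟨n, hn⟩)⁻¹ :=
    fun n hn x => by rw [← MulAut.conj_apply, hτ]; rfl
  have hnz : ∀ {x : T}, x ≠ 1 → Odd (orderOf x) → ∀ {y : K}, Q.π y = x⁻¹ * x⁻¹ → y ∉ center K := by
    intro x hx1 hxo y hy hc
    rw [← Q.ker, MonoidHom.mem_ker, hy, ← mul_inv_rev, inv_eq_one, ← pow_two] at hc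
    have := pow_gcd_eq_one.2 ⟨hc, pow_orderOf_eq_one x⟩
    rw [Nat.Coprime.gcd_eq_one (Nat.coprime_two_left.mpr hxo), pow_one] at this
    exact hx1 this
  rcases htype with ⟨e, hInv, hcard⟩ | ⟨h4, hpair⟩
  · right
    obtain ⟨x, hx, r, b, hr, hr2, hb, hxr, hbig⟩ := hInv t (hord hn₁)
    have htt : t⁻¹ = t := inv_eq_of_mul_eq_one_right (by
      rw [← pow_two, ← hord hn₁, pow_orderOf_eq_one])
    have hxo : Odd (orderOf x) := by rw [hxr]; exact (hr.odd_of_ne_two hr2).pow
    obtain ⟨y, hy, hyo, hyinv, -⟩ := exists_lift_inverted Q hN hNK hZ (M := ⊥) bot_le hn₁N hxo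
      (by rw [hact n₁ hn₁N, ← ht, htt, hx]) fun m hm => by
        obtain rfl := Subgroup.mem_bot.mp hm
        show Q.act (1 : normalizer (K : Set G)) x = x
        rw [map_one, MulAut.one_apply]
    obtain ⟨c, d, hd, hcd⟩ := Nat.exists_eq_pow_mul_and_not_dvd (orderOf_pos y).ne' r hr.ne_one
    have hπy : orderOf (Q.π y) = r ^ b := by
      rw [hy, ← mul_inv_rev, orderOf_inv, ← pow_two,
        Nat.Coprime.orderOf_pow (Nat.coprime_two_right.mpr hxo), hxr]
    have hcop : (r ^ b).Coprime d := Nat.Coprime.pow_left b ((Nat.Prime.coprime_iff_not_dvd hr).mpr hd)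
    refine ⟨n₁, y ^ d, r, b, c, e, hn₁N, hr, hr2, hb, ?_, fun i hi => ?_, ?_, hbig, ?_⟩
    · rw [orderOf_pow' y (fun e => hd (by rw [e]; exact dvd_zero r)), hcd,
        Nat.gcd_eq_right (dvd_mul_left _ _), Nat.mul_div_cancel _
          (Nat.pos_of_ne_zero fun e => hd (by rw [e]; exact dvd_zero r))]
    · rw [← pow_mul, ← Q.ker, MonoidHom.mem_ker, map_pow, ← orderOf_dvd_iff_pow_eq_one, hπy] at hi
      exact hcop.dvd_of_dvd_mul_left hi
    · rw [SubmonoidClass.coe_pow, ← conj_pow, hyinv, inv_pow]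
    · rw [hWcard]; exact hcard W hWel
  · left
    by_cases h2 : Nat.card W ≤ 2
    · have htne : t ≠ 1 := fun e => by
        have := hord hn₁; rw [← ht, e, orderOf_one] at this; exact absurd this (by norm_num)
      obtain ⟨x, hx1, hxo, hxinv⟩ := S0200.result t (hord hn₁) fun P hP hP2 htP => by
        haveI : IsSimpleGroup (K ⧸ center K) := hK.2
        let e : K ⧸ center K ≃* T := (QuotientGroup.quotientMulEquivOfEq Q.ker.symm).trans
          (QuotientGroup.quotientKerEquivOfSurjective Q.π Q.surj)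
        haveI : IsSimpleGroup T := e.symm.isSimpleGroup
        rcases hP.eq_bot_or_eq_top with rfl | rfl
        · exact htne (Subgroup.mem_bot.mp htP)
        haveI : Nontrivial T := ⟨t, 1, htne⟩
        haveI : Nontrivial (⊤ : Subgroup T) := ⟨⟨⟨t, mem_top t⟩, 1, fun e => htne (congrArg Subtype.val e)⟩⟩
        haveI := hP2.center_nontrivial
        obtain ⟨z, hz⟩ := exists_ne (1 : center (⊤ : Subgroup T))
        refine hz (Subtype.ext (Subtype.ext ?_))
        have hz' : ((z : (⊤ : Subgroup T)) : T) ∈ center T := Subgroup.mem_center_iff.mpr fun g =>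
          congrArg Subtype.val (Subgroup.mem_center_iff.mp z.2 ⟨g, mem_top g⟩)
        rw [Q.center_eq_bot hK] at hz'
        exact Subgroup.mem_bot.mp hz'
      have hidx : (N ⊓ centralizer (K : Set G)).relIndex N = 2 := by
        refine le_antisymm (hWcard ▸ h2) ?_
        have h0 : (N ⊓ centralizer (K : Set G)).relIndex N ≠ 0 := Subgroup.index_ne_zero_of_finite
        have h1 : (N ⊓ centralizer (K : Set G)).relIndex N ≠ 1 := fun h1 =>
          hn₁C (Subgroup.relIndex_eq_one.mp h1 hn₁N).2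
        omega
      obtain ⟨y, hy, hyo, hyinv, hyM⟩ := exists_lift_inverted Q hN hNK hZ
        (M := N ⊓ centralizer (K : Set G)) inf_le_left hn₁N hxo
        (by rw [hact n₁ hn₁N, ← ht, hxinv]) fun m hm => by
          show β ⟨m, hm.1⟩ x = x
          rw [(hβC _).mpr hm.2, MulAut.one_apply]
      exact ⟨_, inf_le_left, hidx, n₁, hn₁N, y, hnz hx1 hxo hy, hyo, hyinv, hyM⟩
    · have hW4 : Nat.card W = 4 := by
        have hWp : IsPGroup 2 W := fun w => ⟨1, Subtype.ext (by rw [pow_one]; exact hWel.2 w w.2)⟩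
        obtain ⟨k, hk⟩ := hWp.exists_card_eq
        have := h4 W hWel
        rw [hk] at this h2 ⊢
        rcases k with _ | _ | _ | k
        · simp at h2
        · simp at h2
        · rfl
        · have h8 : 8 ≤ 2 ^ (k + 3) := by
            calc 8 = 2 ^ 3 := rfl
              _ ≤ _ := Nat.pow_le_pow_right (by norm_num) (by omega)
          omega
      have htW : t ∈ W := ⟨⟨n₁, hn₁N⟩, (hτ _).symm⟩
      obtain ⟨s, hsW, hs⟩ : ∃ s ∈ W, s ∉ Subgroup.zpowers t := by
        by_contra hcon
        push Not at hcon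
        have := Subgroup.card_le_of_le (show W ≤ Subgroup.zpowers t from hcon)
        rw [hW4, Nat.card_zpowers, hord hn₁] at this
        omega
      have hs1 : s ≠ 1 := fun e => hs (e ▸ one_mem _)
      obtain ⟨⟨n₂, hn₂N⟩, hn₂⟩ := hsW
      have hτ₂ : τ ⟨n₂, hn₂N⟩ = s := hconj ((hτ _).trans hn₂)
      have hso : orderOf s = 2 := by
        rw [← hτ₂]
        exact hord fun e => hs1 (hconj (hn₂.symm.trans (e.trans (map_one _).symm)))
      obtain ⟨x, hx1, hxo, hxt, hxs⟩ := hpair t s (hord hn₁) hso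
        (fun e => hs (e ▸ Subgroup.mem_zpowers t))
        (congrArg Subtype.val (hWel.1.is_comm.comm ⟨t, htW⟩ ⟨s, _, hn₂⟩))
      set Mn : Subgroup N := ((Subgroup.zpowers t).map MulAut.conj).comap β with hMn
      have hidx : (Mn.map N.subtype).relIndex N = 2 := by
        rw [Subgroup.relIndex, Subgroup.subgroupOf,
          Subgroup.comap_map_eq_self_of_injective N.subtype_injective, hMn, Subgroup.index_comap]
        have hle : (Subgroup.zpowers t).map MulAut.conj ≤ β.range := by
          rw [MonoidHom.map_zpowers, Subgroup.zpowers_le]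
          exact ⟨_, (hτ _).symm⟩
        have h1 : W.map (MulAut.conj : T →* MulAut T) = β.range := by
          rw [hWdef, Subgroup.map_comap_eq, inf_eq_right]
          rintro _ ⟨n, rfl⟩
          exact ⟨τ n, hτ n⟩
        rw [← h1, Subgroup.relIndex_map_map_of_injective _ _ hconj]
        have h2' := Subgroup.relIndex_mul_relIndex (⊥ : Subgroup T) _ W bot_le
          (Subgroup.zpowers_le.mpr htW)
        rw [Subgroup.relIndex_bot_left, Subgroup.relIndex_bot_left, Nat.card_zpowers, hord hn₁,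
          hW4] at h2'
        omega
      obtain ⟨y, hy, hyo, hyinv, hyM⟩ := exists_lift_inverted Q hN hNK hZ
        (M := Mn.map N.subtype) (Subgroup.map_subtype_le _) hn₂N hxo
        (by rw [hact n₂ hn₂N, hτ₂, hxs]) fun m hm => by
          obtain ⟨m, hmM, rfl⟩ := hm
          obtain ⟨w, hw, hwe⟩ := hmM
          show β m x = x
          rw [← hwe, MulAut.conj_apply]
          obtain ⟨i, rfl⟩ := Subgroup.mem_zpowers_iff.mp hw
          rw [((show Commute t x from hxt).zpow_left i).eq, mul_inv_cancel_right]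
      exact ⟨_, Subgroup.map_subtype_le _, hidx, n₂, hn₂N, y, hnz hx1 hxo hy, hyo, hyinv, hyM⟩

end Cfsg.Agent.Classical.SThree
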