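import Cfsg.Agent.Lib.Grp.Components
import Cfsg.Agent.Lib.Block.SFourFree.Dom

/-!
Elements of a component pushed diagonally into the centraliser of a group permuting the component
regularly.
-/

set_option autoImplicit false
set_option linter.unusedSectionVars false

namespace Cfsg.Agent.Classical.SThree

open Subgroup
open scoped Pointwise

universe u v

variable {G : Type u} [Group G] [Finite G]

/-- `T` is the central quotient of `K`. -/
structure CentQuot (K : Subgroup G) (T : Type v) [Group T] where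
  π : K →* T
  surj : Function.Surjective π
  ker : π.ker = center K

section Diag

variable (K : Subgroup G) (B : Subgroup G)

/-- The `b`-th embedding. -/
def emb (b : B) : K →* G := (MulAut.conj (b : G)).toMonoidHom.comp K.subtype

theorem emb_apply (b : B) (k : K) : emb K B b k = (b : G) * k * (b : G)⁻¹ := rfl

variable {K B}

theorem smul_ne (hB : B ⊓ normalizer (K : Set G) = ⊥) {i j : B} (h : i ≠ j) :
    MulAut.conj (i : G) • K ≠ MulAut.conj (j : G) • K := by
  intro e
  refine h (Subtype.ext ?_)
  have h1 : (j : G)⁻¹ * i ∈ B ⊓ normalizer (K : Set G) := by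
    refine ⟨B.mul_mem (B.inv_mem j.2) i.2, ?_⟩
    show (j : G)⁻¹ * i ∈ normalizer (K : Set G)
    rw [Grp.mem_normalizer_iff_smul, map_mul, mul_smul, e, map_inv, inv_smul_smul]
  rw [hB, Subgroup.mem_bot, inv_mul_eq_one] at h1
  exact h1.symm

theorem emb_commute (hK : Cfsg.IsComponent K) (hB : B ⊓ normalizer (K : Set G) = ⊥) :
    Pairwise fun i j : B => ∀ x y, Commute (emb K B i x) (emb K B j y) := by
  intro i j hij x y
  have hc := Grp.IsComponent.commute (Grp.IsComponent.conj hK (i : G))
    (Grp.IsComponent.conj hK (j : G)) (smul_ne hB hij)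
  exact (Subgroup.mem_centralizer_iff.mp (hc (show emb K B i x ∈ MulAut.conj (i : G) • K from
    Subgroup.smul_mem_pointwise_smul _ _ _ x.2)) (emb K B j y)
    (Subgroup.smul_mem_pointwise_smul _ _ _ y.2)).symm

variable (hK : Cfsg.IsComponent K) (hB : B ⊓ normalizer (K : Set G) = ⊥)

/-- The product over the orbit. -/
noncomputable def tot : (B → K) →* G :=
  letI := Fintype.ofFinite B
  MonoidHom.noncommPiCoprod (N := fun _ : B => K) (emb K B) (emb_commute hK hB)

theorem tot_mulSingle [DecidableEq B] (b : B) (k : K) :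
    tot hK hB (Pi.mulSingle b k) = (b : G) * k * (b : G)⁻¹ := by
  letI := Fintype.ofFinite B
  unfold tot
  rw [MonoidHom.noncommPiCoprod_mulSingle]
  rfl

/-- The diagonal. -/
noncomputable def diag : K →* G :=
  (tot hK hB).comp (Pi.monoidHom fun _ => MonoidHom.id K)

theorem conj_tot (c : B) (φ : B → K) :
    (c : G) * tot hK hB φ * (c : G)⁻¹ = tot hK hB (fun b => φ (c⁻¹ * b)) := by
  classical
  letI := Fintype.ofFinite B
  let σ : (B → K) →* (B → K) := MonoidHom.mk' (fun φ b => φ (c⁻¹ * b)) fun _ _ => rfl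
  refine DFunLike.congr_fun (MonoidHom.pi_ext (f := (MulAut.conj (c : G)).toMonoidHom.comp (tot hK hB))
    (g := (tot hK hB).comp σ) fun i x => ?_) φ
  have e : σ (Pi.mulSingle i x) = Pi.mulSingle (c * i) x := funext fun b => by
    show (Pi.mulSingle i x : B → K) (c⁻¹ * b) = _
    rw [Pi.mulSingle_apply, Pi.mulSingle_apply]
    simp only [inv_mul_eq_iff_eq_mul]
  show (c : G) * tot hK hB (Pi.mulSingle i x) * (c : G)⁻¹ = tot hK hB (σ (Pi.mulSingle i x))
  rw [e, tot_mulSingle, tot_mulSingle, Subgroup.coe_mul]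
  group

theorem diag_comm {b : G} (hb : b ∈ B) (k : K) : b * diag hK hB k = diag hK hB k * b := by
  have := conj_tot hK hB ⟨b, hb⟩ (fun _ => k)
  exact mul_inv_eq_iff_eq_mul.mp this

/-- An element commuting with `B` and normalising `K` acts coordinatewise. -/
theorem conj_tot_normalizer {n : G} (hn : n ∈ normalizer (K : Set G))
    (hnB : ∀ b ∈ B, n * b = b * n) (φ : B → K) :
    n * tot hK hB φ * n⁻¹ = tot hK hB (fun b => K.normalizerMonoidHom ⟨n, hn⟩ (φ b)) := by
  classical
  letI := Fintype.ofFinite B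
  let σ : (B → K) →* (B → K) := MonoidHom.mk' (fun φ b => K.normalizerMonoidHom ⟨n, hn⟩ (φ b))
    fun φ ψ => funext fun b => map_mul _ _ _
  refine DFunLike.congr_fun (MonoidHom.pi_ext (f := (MulAut.conj n).toMonoidHom.comp (tot hK hB))
    (g := (tot hK hB).comp σ) fun i x => ?_) φ
  have e : σ (Pi.mulSingle i x) = Pi.mulSingle i (K.normalizerMonoidHom ⟨n, hn⟩ x) := funext fun b => by
    show K.normalizerMonoidHom ⟨n, hn⟩ ((Pi.mulSingle i x : B → K) b) = _
    rw [Pi.mulSingle_apply, Pi.mulSingle_apply]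
    split_ifs
    · rfl
    · exact map_one _
  show n * tot hK hB (Pi.mulSingle i x) * n⁻¹ = tot hK hB (σ (Pi.mulSingle i x))
  rw [e, tot_mulSingle, tot_mulSingle]
  show n * ((i : G) * x * (i : G)⁻¹) * n⁻¹ = (i : G) * (n * x * n⁻¹) * (i : G)⁻¹
  rw [show n * ((i : G) * x * (i : G)⁻¹) * n⁻¹ = (n * i) * x * (n * i)⁻¹ by group, hnB i i.2]
  group

theorem diag_conj {n : G} (hn : n ∈ normalizer (K : Set G)) (hnB : ∀ b ∈ B, n * b = b * n) (k : K) :
    n * diag hK hB k * n⁻¹ = diag hK hB (K.normalizerMonoidHom ⟨n, hn⟩ k) :=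
  conj_tot_normalizer hK hB hn hnB _

/-- A product over the orbit is trivial only if its coordinate at `K` is central. -/
theorem mem_center_of_tot_eq_one {φ : B → K} (h : tot hK hB φ = 1) : φ 1 ∈ center K := by
  classical
  letI := Fintype.ofFinite B
  set ψ := Function.update φ 1 1 with hψ
  have e : φ = Pi.mulSingle 1 (φ 1) * ψ := funext fun b => by
    rw [Pi.mul_apply, Pi.mulSingle_apply, hψ]
    by_cases hb : b = 1
    · subst hb; rw [if_pos rfl, Function.update_self, mul_one]
    · rw [if_neg hb, Function.update_of_ne hb, one_mul]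
  rw [e, map_mul, tot_mulSingle, OneMemClass.coe_one, one_mul, inv_one, mul_one,
    mul_eq_one_iff_eq_inv] at h
  rw [Subgroup.mem_center_iff]
  intro k
  refine Subtype.ext ?_
  have hc : Commute (k : G) (tot hK hB ψ) := by
    have h1 : Commute (Pi.mulSingle (M := fun _ : B => K) 1 k) ψ := funext fun b => by
      rw [Pi.mul_apply, Pi.mul_apply, Pi.mulSingle_apply, hψ]
      by_cases hb : b = 1
      · subst hb; rw [if_pos rfl, Function.update_self, mul_one, one_mul]
      · rw [if_neg hb, Function.update_of_ne hb, mul_one, one_mul]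
    have := h1.map (tot hK hB)
    rwa [tot_mulSingle, OneMemClass.coe_one, one_mul, inv_one, mul_one] at this
  show (k : G) * φ 1 = φ 1 * k
  rw [h]
  exact hc.inv_right.eq

end Diag

end Cfsg.Agent.Classical.SThree
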