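import Cfsg.Agent.Lib.Classical.SThree.CompWitness
import Cfsg.Agent.Lib.Block.SFourFree.SmallCase
import Cfsg.Agent.Lib.Grp.Baer

/-!
Every elementary abelian subgroup contains a smaller one whose centraliser has an inverted element
of odd order forcing a large gain on fixed points.
-/

set_option autoImplicit false
set_option linter.unusedSectionVars false

namespace Cfsg.Agent.Classical.SThree

open Subgroup Cfsg.Agent.Invol Cfsg.Agent.Block.SFour
open scoped Pointwise commutatorElement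

universe u v

variable {G : Type u} [Group G] [Finite G]

/-- A smaller subgroup with an inverted element in its centraliser. -/
def Wit (A : Subgroup G) : Prop :=
  ∃ (B : Subgroup G) (a x : G), B ≤ A ∧ a ∈ A ∧ a ∉ B ∧ x ≠ 1 ∧ Odd (orderOf x) ∧
    a * x * a⁻¹ = x⁻¹ ∧ (∀ b ∈ B, b * x = x * b) ∧
    (B.relIndex A = 2 ∨ ∃ r b c e : ℕ, r.Prime ∧ r ≠ 2 ∧ 1 ≤ b ∧ b ≤ c ∧ orderOf x = r ^ c ∧
      (∀ j, 1 ≤ j → r ^ b ∣ 2 ^ j - 1 → e ≤ j) ∧ B.relIndex A ^ 4 ≤ 2 ^ e)

theorem not_mem_of_inverts {a x : G} {B : Subgroup G} (hx1 : x ≠ 1) (hxo : Odd (orderOf x))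
    (hinv : a * x * a⁻¹ = x⁻¹) (hB : ∀ b ∈ B, b * x = x * b) : a ∉ B := fun ha => hx1 (by
  rw [hB a ha, mul_inv_cancel_right, eq_inv_iff_mul_eq_one, ← pow_two] at hinv
  have := pow_gcd_eq_one.2 ⟨hinv, pow_orderOf_eq_one x⟩
  rwa [Nat.Coprime.gcd_eq_one (Nat.coprime_two_left.mpr hxo), pow_one] at this)

/-- Inside an elementary abelian group every subgroup has a complement. -/
theorem exists_compl {A N : Subgroup G} (hA : Cfsg.IsElementaryAbelian 2 A) (hN : N ≤ A) :
    ∃ B ≤ A, B ⊓ N = ⊥ ∧ B ⊔ N = A := by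
  obtain ⟨B, ⟨hBA, hBN⟩, hmax⟩ := exists_maximal_of_wellFoundedGT
    (fun B : Subgroup G => B ≤ A ∧ B ⊓ N = ⊥) ⟨⊥, bot_le, bot_inf_eq _⟩
  refine ⟨B, hBA, hBN, le_antisymm (sup_le hBA hN) fun a ha => ?_⟩
  by_contra hnot
  refine hnot (le_sup_left (b := N) ?_)
  refine hmax ⟨sup_le hBA (Subgroup.zpowers_le.mpr ha), ?_⟩ le_sup_left
    (le_sup_right (a := B) (Subgroup.mem_zpowers a))
  rw [Subgroup.eq_bot_iff_forall]
  rintro w ⟨hw, hwN⟩
  have hcomm : ∀ x ∈ A, ∀ y ∈ A, x * y = y * x := (isEl_iff.mp hA).1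
  have hn : Subgroup.zpowers a ≤ normalizer (B : Set G) := by
    rw [Subgroup.zpowers_le]
    refine Subgroup.centralizer_le_normalizer _ (Subgroup.mem_centralizer_iff.mpr fun b hb => ?_)
    exact hcomm b (hBA hb) a ha
  obtain ⟨b, hb, c, hc, rfl⟩ := Set.mem_mul.mp (Subgroup.coe_mul_of_right_le_normalizer_left B _ hn ▸ hw :
    w ∈ ((B : Set G) * (Subgroup.zpowers a : Set G)))
  obtain ⟨i, rfl⟩ := Subgroup.mem_zpowers_iff.mp hc
  have ha2 : a ^ (2 : ℤ) = 1 := by rw [show (2 : ℤ) = ((2 : ℕ) : ℤ) from rfl, zpow_natCast]; exact hA.2 a ha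
  rcases Int.even_or_odd i with ⟨j, rfl⟩ | ⟨j, rfl⟩
  · rw [← two_mul, zpow_mul, ha2, one_zpow, mul_one] at hwN ⊢
    have : b ∈ B ⊓ N := ⟨hb, hwN⟩
    rwa [hBN, Subgroup.mem_bot] at this
  · exfalso
    rw [zpow_add, zpow_mul, ha2, one_zpow, one_mul, zpow_one] at hwN
    refine hnot ?_
    have h1 := mul_mem (inv_mem (le_sup_left (b := N) hb)) (le_sup_right (a := B) hwN)
    rwa [inv_mul_cancel_left] at h1

theorem relIndex_sup_compl {A N B M : Subgroup G} (hA : Cfsg.IsElementaryAbelian 2 A) (hN : N ≤ A)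
    (hB : B ≤ A) (hBN : B ⊓ N = ⊥) (hsup : B ⊔ N = A) (hM : M ≤ N) :
    (B ⊔ M).relIndex A = M.relIndex N := by
  have hc : ∀ X : Subgroup G, X ≤ A → B ≤ normalizer (X : Set G) := fun X hX b hb =>
    Subgroup.centralizer_le_normalizer _ (Subgroup.mem_centralizer_iff.mpr fun x hx =>
      (isEl_iff.mp hA).1 x (hX hx) b (hB hb))
  have h1 := Grp.card_sup_mul_card_inf (hc N hN)
  have h2 := Grp.card_sup_mul_card_inf (hc M (hM.trans hN))
  rw [hBN, Subgroup.card_bot, mul_one, hsup] at h1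
  rw [le_bot_iff.mp ((inf_le_inf_left B hM).trans hBN.le), Subgroup.card_bot, mul_one] at h2
  have h3 := Subgroup.relIndex_mul_relIndex (⊥ : Subgroup G) (B ⊔ M) A bot_le
    (sup_le hB (hM.trans hN))
  have h4 := Subgroup.relIndex_mul_relIndex (⊥ : Subgroup G) M N bot_le hM
  simp only [Subgroup.relIndex_bot_left] at h3 h4
  rw [h2, h1, ← h4] at h3
  exact Nat.eq_of_mul_eq_mul_left (Nat.mul_pos Nat.card_pos Nat.card_pos) (by rw [h3]; ring)

variable {A : Subgroup G}

theorem wit_of_fitting (hO : Cfsg.pCore 2 G = ⊥) (hA : Cfsg.IsElementaryAbelian 2 A)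
    (h : ¬ A ≤ centralizer (Cfsg.fittingSubgroup G : Set G)) : Wit A := by
  haveI : Fact (Nat.Prime 2) := ⟨Nat.prime_two⟩
  set F := Cfsg.fittingSubgroup G
  have hodd : Odd (Nat.card F) := by
    have hF : F ≤ Cfsg.pPrimeCore 2 G := by
      show Cfsg.fittingSubgroup G ≤ _
      rw [Transfer.fittingSubgroup_eq_iSup_pCore]
      refine iSup_le fun q => ?_
      haveI := Fact.mk (Nat.prime_of_mem_primeFactors q.2)
      by_cases hq : (q : ℕ) = 2
      · rw [hq, hO]; exact bot_le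
      · refine Grp.le_pPrimeCore Grp.pCore_isNormal ?_
        obtain ⟨k, hk⟩ := (Grp.pCore_isPGroup (p := (q : ℕ)) (G := G)).exists_card_eq
        rw [hk]
        exact ((Nat.coprime_primes (Nat.prime_of_mem_primeFactors q.2) Nat.prime_two).mpr hq).pow_left k
    exact (Nat.coprime_two_right.mp Grp.pPrimeCore_coprime).of_dvd_nat (Subgroup.card_dvd_of_le hF)
  have hA1 : A ≠ ⊥ := fun e => h (e ▸ bot_le)
  haveI : F.Normal := inferInstance
  have hAF : A ≤ normalizer (F : Set G) := by rw [Subgroup.normalizer_eq_top]; exact le_top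
  obtain ⟨D, hDA, hDi, x₀, hx₀, hx₀A⟩ : ∃ D : Subgroup G, D ≤ A ∧ D.relIndex A = 2 ∧
      ∃ x ∈ F ⊓ centralizer (D : Set G), x ∉ centralizer (A : Set G) := by
    by_contra hcon
    push Not at hcon
    have hle : F ≤ centralizer (A : Set G) :=
      Grp.le_of_hyperplanes hA hA1 F hodd.not_two_dvd_nat hAF fun D hD hi x hx => hcon D hD hi x hx
    exact h (Subgroup.le_centralizer_iff.mp hle)
  rw [Subgroup.mem_centralizer_iff] at hx₀A
  push Not at hx₀A
  obtain ⟨a, ha, hax⟩ := hx₀A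
  have hx1 : a * x₀ * a⁻¹ * x₀⁻¹ ≠ 1 := fun e => hax (by
    rw [mul_inv_eq_one, mul_inv_eq_iff_eq_mul] at e; exact e)
  have hxF : a * x₀ * a⁻¹ * x₀⁻¹ ∈ F :=
    F.mul_mem ((inferInstance : F.Normal).conj_mem _ hx₀.1 a) (F.inv_mem hx₀.1)
  have hxo : Odd (orderOf (a * x₀ * a⁻¹ * x₀⁻¹)) :=
    hodd.of_dvd_nat (Subgroup.orderOf_dvd_natCard F hxF)
  have hinv : a * (a * x₀ * a⁻¹ * x₀⁻¹) * a⁻¹ = (a * x₀ * a⁻¹ * x₀⁻¹)⁻¹ := by
    calc _ = (a * a) * x₀ * (a * a)⁻¹ * (a * x₀ * a⁻¹)⁻¹ := by group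
      _ = _ := by rw [← pow_two, hA.2 a ha]; group
  have hD : ∀ d ∈ D, d * (a * x₀ * a⁻¹ * x₀⁻¹) = (a * x₀ * a⁻¹ * x₀⁻¹) * d := by
    intro d hd
    have h1 : Commute d x₀ := Subgroup.mem_centralizer_iff.mp hx₀.2 d hd
    have h2 : Commute d a := (isEl_iff.mp hA).1 d (hDA hd) a ha
    exact (((h2.mul_right h1).mul_right h2.inv_right).mul_right h1.inv_right).eq
  exact ⟨D, a, _, hDA, ha, not_mem_of_inverts hx1 hxo hinv hD, hx1, hxo, hinv, hD, Or.inl hDi⟩

/-- Some component is moved or acted on nontrivially. -/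
theorem exists_component (hO : Cfsg.pCore 2 G = ⊥) (hA : Cfsg.IsElementaryAbelian 2 A) (hA1 : A ≠ ⊥)
    (h : A ≤ centralizer (Cfsg.fittingSubgroup G : Set G)) :
    ∃ K : Subgroup G, Cfsg.IsComponent K ∧ ¬ A ≤ centralizer (K : Set G) := by
  haveI : Fact (Nat.Prime 2) := ⟨Nat.prime_two⟩
  by_contra hcon
  push Not at hcon
  have hE : A ≤ centralizer (Cfsg.layer G : Set G) :=
    Subgroup.le_centralizer_iff.mp (sSup_le fun K hK => Subgroup.le_centralizer_iff.mp (hcon K hK))
  have hF : A ≤ centralizer (Cfsg.generalizedFittingSubgroup G : Set G) := by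
    rw [Cfsg.generalizedFittingSubgroup, centralizer_sup]
    exact le_inf hE h
  set Z := centralizer (Cfsg.generalizedFittingSubgroup G : Set G) with hZ
  haveI : (Cfsg.layer G).Normal := inferInstance
  haveI : (Cfsg.generalizedFittingSubgroup G).Normal := Subgroup.sup_normal _ _
  haveI : Z.Normal := by rw [hZ]; infer_instance
  have hZc : IsMulCommutative Z := ⟨⟨fun a b => Subtype.ext
    (Subgroup.mem_centralizer_iff.mp b.2 a (Grp.centralizer_gfitting_le a.2))⟩⟩
  have hZF : Z ≤ Cfsg.fittingSubgroup G :=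
    Grp.le_fitting_of_isSubnormal (inferInstance : Z.Normal).isSubnormal
      (by open scoped IsMulCommutative in infer_instance)
  refine hA1 ((Subgroup.eq_bot_iff_forall A).mpr fun a ha => ?_)
  by_contra ha1
  have ho : orderOf a = 2 := orderOf_eq_prime (hA.2 a ha) ha1
  have h2 : a ∈ Cfsg.pCore 2 G := by
    have hp : IsPGroup 2 (Subgroup.zpowers a) :=
      IsPGroup.of_card (n := 1) (by rw [Nat.card_zpowers, ho, pow_one])
    exact Grp.mem_pCore_of_mem_fitting (hZF (hF ha)) hp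
  rw [hO, Subgroup.mem_bot] at h2
  exact ha1 h2

set_option maxHeartbeats 1000000 in
theorem wit_of_component (hn3 : NoThree G) (hA : Cfsg.IsElementaryAbelian 2 A)
    (hF : A ≤ centralizer (Cfsg.fittingSubgroup G : Set G)) {K : Subgroup G}
    (hK : Cfsg.IsComponent K) (hne : ¬ A ≤ centralizer (K : Set G))
    {T : Type v} [Group T] (Q : CentQuot K T) (hT : Model T) : Wit A := by
  classical
  haveI : Fact (Nat.Prime 2) := ⟨Nat.prime_two⟩
  set N := A ⊓ normalizer (K : Set G) with hNdef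
  have hNA : N ≤ A := inf_le_left
  have hNK : N ≤ normalizer (K : Set G) := inf_le_right
  have hab := (isEl_iff.mp hA).1
  have hNel : Cfsg.IsElementaryAbelian 2 N := isEl_mono hA hNA
  have hsq : ∀ a ∈ A, a * a = 1 := fun a ha => by rw [← pow_two]; exact hA.2 a ha
  obtain ⟨B, hBA, hBN, hsup⟩ := exists_compl hA hNA
  have hB : B ⊓ normalizer (K : Set G) = ⊥ := by
    rw [← le_bot_iff, ← hBN]
    exact le_inf inf_le_left (le_inf (inf_le_left.trans hBA) inf_le_right)
  by_cases hNC : N ≤ centralizer (K : Set G)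
  · -- a component moved by `A`
    have hB1 : B ≠ ⊥ := fun e => hne (by rw [e, bot_sup_eq] at hsup; exact hsup ▸ hNC)
    obtain ⟨b₀, hb₀B, hb₀⟩ := (Subgroup.bot_or_exists_ne_one B).resolve_left hB1
    obtain ⟨C, hCB, hCz, hCsup⟩ := exists_compl (isEl_mono hA hBA) (Subgroup.zpowers_le.mpr hb₀B)
    have hb₀C : b₀ ∉ C := fun h => hb₀ (by
      have : b₀ ∈ C ⊓ Subgroup.zpowers b₀ := ⟨h, Subgroup.mem_zpowers b₀⟩
      rwa [hCz, Subgroup.mem_bot] at this)
    obtain ⟨y, hy, hyo⟩ : ∃ y : K, y ∉ center K ∧ Odd (orderOf y) := by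
      haveI : IsSimpleGroup (K ⧸ center K) := hK.2.2
      by_contra hcon
      push Not at hcon
      have h2 : IsPGroup 2 (K ⧸ center K) := by
        intro q
        obtain ⟨k, rfl⟩ := QuotientGroup.mk'_surjective (center K) q
        obtain ⟨a, b, hb, hab'⟩ := Nat.exists_eq_two_pow_mul_odd (orderOf_pos k).ne'
        refine ⟨a, ?_⟩
        rw [← map_pow, QuotientGroup.mk'_apply, QuotientGroup.eq_one_iff]
        by_contra hc
        have := hcon _ hc
        refine this ?_
        rw [orderOf_pow' _ (pow_ne_zero _ two_ne_zero), hab', Nat.gcd_eq_right (dvd_mul_right _ b),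
          Nat.mul_div_cancel_left _ (pow_pos two_pos a)]
        exact hb
      have hsol : Group.IsSolvable K := by
        haveI : Group.IsNilpotent (K ⧸ center K) := h2.isNilpotent
        haveI : Group.IsSolvable (K ⧸ center K) := inferInstance
        haveI : Group.IsSolvable (center K) := by open scoped IsMulCommutative in infer_instance
        exact Group.isSolvable_of_ker_le_range (center K).subtype (QuotientGroup.mk' (center K))
          (by rw [QuotientGroup.ker_mk', Subgroup.range_subtype])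
      exact Grp.IsQuasisimple.not_isSolvable hK.2 hsol
    set Φ : (B → K) →* G := tot hK hB
    set φ : B → K := fun b => if (b : G) ∈ C then y⁻¹ else y with hφ
    have hx1 : Φ φ ≠ 1 := fun e => hy (by
      have := mem_center_of_tot_eq_one hK hB e
      rw [hφ] at this
      simp only [OneMemClass.coe_one, one_mem, if_true] at this
      simpa using inv_mem this)
    have hxo : Odd (orderOf (Φ φ)) := by
      refine hyo.of_dvd_nat ((orderOf_map_dvd Φ φ).trans (orderOf_dvd_of_pow_eq_one (funext fun b => ?_)))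
      rw [hφ, Pi.pow_apply, Pi.one_apply]
      split_ifs
      · rw [inv_pow, pow_orderOf_eq_one, inv_one]
      · exact pow_orderOf_eq_one y
    have hinv : b₀ * Φ φ * b₀⁻¹ = (Φ φ)⁻¹ := by
      rw [← map_inv]
      refine (conj_tot hK hB ⟨b₀, hb₀B⟩ φ).trans (congrArg _ (funext fun b => ?_))
      have hb0i : b₀⁻¹ = b₀ := inv_eq_of_mul_eq_one_right (hsq b₀ (hBA hb₀B))
      show φ ((⟨b₀, hb₀B⟩ : B)⁻¹ * b) = (φ b)⁻¹
      rw [hφ]
      dsimp only
      rw [Subgroup.coe_mul, InvMemClass.coe_inv, hb0i]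
      by_cases hb : (b : G) ∈ C
      · rw [if_pos hb, if_neg (fun h => hb₀C ((C.mul_mem_cancel_right hb).mp h)), inv_inv]
      · rw [if_neg hb, if_pos]
        have hbB : (b : G) ∈ C ⊔ Subgroup.zpowers b₀ := hCsup.symm ▸ b.2
        have hn : Subgroup.zpowers b₀ ≤ normalizer (C : Set G) := by
          rw [Subgroup.zpowers_le]
          exact Subgroup.centralizer_le_normalizer _ (Subgroup.mem_centralizer_iff.mpr fun c hc =>
            hab c (hBA (hCB hc)) b₀ (hBA hb₀B))
        obtain ⟨c, hc, w, hw, hcw⟩ := Set.mem_mul.mp (Subgroup.coe_mul_of_right_le_normalizer_left C _ hn ▸ hbB :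
          (b : G) ∈ ((C : Set G) * (Subgroup.zpowers b₀ : Set G)))
        obtain ⟨i, rfl⟩ := Subgroup.mem_zpowers_iff.mp hw
        rw [← hcw, hab b₀ (hBA hb₀B) _ (A.mul_mem (hBA (hCB hc)) (zpow_mem (hBA hb₀B) i)), mul_assoc]
        have h2 : b₀ ^ (2 : ℤ) = 1 := by
          rw [show (2 : ℤ) = ((2 : ℕ) : ℤ) from rfl, zpow_natCast]; exact hA.2 b₀ (hBA hb₀B)
        rcases Int.even_or_odd i with ⟨j, rfl⟩ | ⟨j, rfl⟩
        · exfalso
          rw [← two_mul, zpow_mul, h2, one_zpow, mul_one] at hcw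
          exact hb (hcw ▸ hc)
        · rw [zpow_add, zpow_mul, h2, one_zpow, one_mul, zpow_one, hsq b₀ (hBA hb₀B), mul_one]
          exact hc
    have hcomm : ∀ b ∈ C ⊔ N, b * Φ φ = Φ φ * b := by
      have : C ⊔ N ≤ centralizer ({Φ φ} : Set G) := by
        refine sup_le (fun c hc => ?_) fun n hn => ?_ <;>
          rw [Subgroup.mem_centralizer_singleton_iff, ← mul_inv_eq_iff_eq_mul]
        · refine (conj_tot hK hB ⟨c, hCB hc⟩ φ).trans (congrArg _ (funext fun b => ?_))
          rw [hφ]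
          dsimp only
          rw [Subgroup.coe_mul, InvMemClass.coe_inv]
          by_cases hb : (b : G) ∈ C
          · rw [if_pos hb, if_pos (C.mul_mem (C.inv_mem hc) hb)]
          · rw [if_neg hb, if_neg (fun h => hb ((C.mul_mem_cancel_left (C.inv_mem hc)).mp h))]
        · rw [conj_tot_normalizer hK hB (hNK hn) fun b hb => hab n (hNA hn) b (hBA hb)]
          refine congrArg _ (funext fun b => Subtype.ext ?_)
          show n * (φ b : G) * n⁻¹ = φ b
          rw [← Subgroup.mem_centralizer_iff.mp (hNC hn) _ (φ b).2, mul_inv_cancel_right]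
      exact fun b hb => Subgroup.mem_centralizer_singleton_iff.mp (this hb)
    have hidx : (C ⊔ N).relIndex A = 2 := by
      have h1 : N ⊓ B = ⊥ := by rw [inf_comm]; exact hBN
      rw [sup_comm, relIndex_sup_compl hA hBA hNA h1 (by rw [sup_comm]; exact hsup) hCB]
      have h2 := Grp.card_sup_mul_card_inf (H := C) (N := Subgroup.zpowers b₀) fun c hc =>
        Subgroup.centralizer_le_normalizer _ (Subgroup.mem_centralizer_iff.mpr fun w hw =>
          hab w (hBA (Subgroup.zpowers_le.mpr hb₀B hw)) c (hBA (hCB hc)))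
      rw [hCsup, hCz, Subgroup.card_bot, mul_one, Nat.card_zpowers,
        orderOf_eq_prime (hA.2 b₀ (hBA hb₀B)) hb₀] at h2
      have h3 := Subgroup.relIndex_mul_relIndex (⊥ : Subgroup G) C B bot_le hCB
      rw [Subgroup.relIndex_bot_left, Subgroup.relIndex_bot_left, h2] at h3
      exact Nat.eq_of_mul_eq_mul_left Nat.card_pos h3
    exact ⟨C ⊔ N, b₀, Φ φ, sup_le (hCB.trans hBA) hNA, hBA hb₀B,
      not_mem_of_inverts hx1 hxo hinv hcomm, hx1, hxo, hinv, hcomm, Or.inl hidx⟩
  · -- the diagonal of a component normalised by `N`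
    have hZ : ∀ n ∈ N, ∀ z : K, z ∈ center K → n * (z : G) = z * n := by
      intro n hn z hz
      have hzF : (z : G) ∈ Cfsg.fittingSubgroup G :=
        Grp.component_centralizer_inf_le_fitting hK ⟨z.2, Subgroup.mem_centralizer_iff.mpr fun k hk =>
          congrArg Subtype.val (Subgroup.mem_center_iff.mp hz ⟨k, hk⟩)⟩
      exact (Subgroup.mem_centralizer_iff.mp (hF (hNA hn)) _ hzF).symm
    have hw := compWit_of_model Q hT hK.2 hn3 hNel hNK hZ hNC
    set δ : K →* G := diag hK hB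
    have hker : ∀ k, δ k = 1 → k ∈ center K := fun k h => mem_center_of_tot_eq_one hK hB h
    have hcommB : ∀ k : K, ∀ b ∈ B, b * δ k = δ k * b := fun k b hb => diag_comm hK hB hb k
    have hconj : ∀ n ∈ N, ∀ k : K, ∀ v : G, n * k * n⁻¹ = v → ∀ hv : v ∈ K,
        n * δ k * n⁻¹ = δ ⟨v, hv⟩ := by
      intro n hn k v e hv
      subst e
      exact diag_conj hK hB (hNK hn) (fun b hb => hab n (hNA hn) b (hBA hb)) k
    have hinv : ∀ n ∈ N, ∀ k : K, n * k * n⁻¹ = (k : G)⁻¹ → n * δ k * n⁻¹ = (δ k)⁻¹ := by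
      intro n hn k hk
      rw [hconj n hn k _ hk (K.inv_mem k.2), ← map_inv]
      rfl
    have hcommN : ∀ m ∈ N, ∀ k : K, m * k = k * m → m * δ k = δ k * m := by
      intro m hm k hk
      rw [← mul_inv_eq_iff_eq_mul]
      exact hconj m hm k _ (mul_inv_eq_iff_eq_mul.mpr hk) k.2
    rcases hw with ⟨M, hMN, hMi, n, hn, y, hy, hyo, hyinv, hyM⟩ |
        ⟨n, y, r, b, c, e, hn, hr, hr2, hb, hyc, hyi, hyinv, hbig, hidx⟩
    · have hx1 : δ y ≠ 1 := fun h => hy (hker y h)
      have hxo : Odd (orderOf (δ y)) := hyo.of_dvd_nat (orderOf_map_dvd δ y)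
      have hcomm : ∀ w ∈ B ⊔ M, w * δ y = δ y * w := by
        have : B ⊔ M ≤ centralizer ({δ y} : Set G) := sup_le
          (fun b hb => Subgroup.mem_centralizer_singleton_iff.mpr (hcommB y b hb))
          (fun m hm => Subgroup.mem_centralizer_singleton_iff.mpr (hcommN m (hMN hm) y (hyM m hm)))
        exact fun w hw => Subgroup.mem_centralizer_singleton_iff.mp (this hw)
      exact ⟨B ⊔ M, n, δ y, sup_le hBA (hMN.trans hNA), hNA hn,
        not_mem_of_inverts hx1 hxo (hinv n hn y hyinv) hcomm, hx1, hxo, hinv n hn y hyinv, hcomm,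
        Or.inl ((relIndex_sup_compl hA hNA hBA hBN hsup hMN).trans hMi)⟩
    · obtain ⟨c', hc', hord⟩ := (Nat.dvd_prime_pow hr).mp (hyc ▸ orderOf_map_dvd δ y)
      have hbc : b ≤ c' := by
        refine (Nat.pow_dvd_pow_iff_le_right hr.one_lt).mp (hyi _ (hker _ ?_))
        rw [map_pow, ← hord, pow_orderOf_eq_one]
      have hxo : Odd (orderOf (δ y)) := by rw [hord]; exact (hr.odd_of_ne_two hr2).pow
      have hx1 : δ y ≠ 1 := fun h => by
        rw [h, orderOf_one] at hord
        exact absurd hord.symm (Nat.one_lt_pow (by omega) hr.one_lt).ne'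
      have hcomm : ∀ w ∈ B ⊔ (N ⊓ centralizer (K : Set G)), w * δ y = δ y * w := by
        have : B ⊔ (N ⊓ centralizer (K : Set G)) ≤ centralizer ({δ y} : Set G) := sup_le
          (fun b hb => Subgroup.mem_centralizer_singleton_iff.mpr (hcommB y b hb))
          (fun m hm => Subgroup.mem_centralizer_singleton_iff.mpr (hcommN m hm.1 y
            (Subgroup.mem_centralizer_iff.mp hm.2 y y.2).symm))
        exact fun w hw => Subgroup.mem_centralizer_singleton_iff.mp (this hw)
      refine ⟨B ⊔ (N ⊓ centralizer (K : Set G)), n, δ y, sup_le hBA (inf_le_left.trans hNA), hNA hn,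
        not_mem_of_inverts hx1 hxo (hinv n hn y hyinv) hcomm, hx1, hxo, hinv n hn y hyinv, hcomm,
        Or.inr ⟨r, b, c', e, hr, hr2, hb, hbc, hord, hbig, ?_⟩⟩
      rw [relIndex_sup_compl hA hNA hBA hBN hsup inf_le_left]
      exact hidx

end Cfsg.Agent.Classical.SThree
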